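import Cfsg.Agent.H799.RO.SpSix
import Cfsg.Agent.H729.PairCo3N
import Cfsg.Agent.H573.Spor.Mathieu
import Cfsg.Agent.SporRec.Co3.Model
import Cfsg.Agent.H723.Spor.MOrders
import Cfsg.Agent.SporadicA.Co0Mono
import Cfsg.Agent.Leech.Trans
import Cfsg.Agent.FastGrp
import Cfsg.Agent.Prune
set_option linter.all false
prune_inst 0x7f00000000000000000000000000000000000000000000000000000000000000000000000000000000000000000000000000000000000000000000000000000000000000000000000000000000000000003fffffffffffffffffffffffffffbeffbdffffffff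
open scoped Cfsg.Agent.FastGrp

-- part: H815/Co/Sep14
section
/-!
# `Sp₆(2)` has no element of order 14 (helper815, task 2818)
-/

set_option autoImplicit false

namespace Cfsg.Agent.H815.Co.Sep14

open Subgroup Cfsg Cfsg.Agent.SporRec.TwoSp6.Sp Cfsg.Agent.H729.PairCo3 Cfsg.Agent.H799.RO.SpSix

/-- an element of order 7 -/
def r : S := wd [1, 8, 3, 16, 6, 32]

theorem act_r (c : ℕ) : act r (enc c) = enc (wf [1, 8, 3, 16, 6, 32] c) := act_wd _ c

theorem r_pow_apply (n c : ℕ) : act (r ^ n) (enc c) = enc ((wf [1, 8, 3, 16, 6, 32])^[n] c) := by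
  induction n generalizing c with
  | zero => rw [pow_zero, act_one]; rfl
  | succ n ih => rw [pow_succ, act_mul, act_r, ih, Function.iterate_succ_apply]

private def tr7 (c : ℕ) : ℕ := Nat.mod (Nat.shiftRight 0x459241a61c7949a282aa2cba5df3c7be7dff51c304b24d3cb65d7d55d345ba6dbe59e386ae3cfb4db2c3a20c38418200 (Nat.mul 6 c)) 64

private theorem wf_tab : ∀ c < 64, wf [1, 8, 3, 16, 6, 32] c = tr7 c := by decide +kernel

private theorem it_tab (n : ℕ) : ∀ c < 64, (wf [1, 8, 3, 16, 6, 32])^[n] c = tr7^[n] c := by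
  induction n with
  | zero => exact fun _ _ => rfl
  | succ n ih =>
    intro c hc
    rw [Function.iterate_succ_apply, Function.iterate_succ_apply, wf_tab c hc]
    exact ih _ (Nat.mod_lt _ (by decide))

theorem r_pow_seven : r ^ 7 = 1 := by
  apply act_ext
  intro x
  obtain ⟨c, hc, rfl⟩ := exists_enc x
  rw [r_pow_apply, act_one]
  have key : ∀ c < 64, tr7^[7] c = c := by decide +kernel
  rw [it_tab 7 c hc, key c hc]

theorem r_ne : r ≠ 1 := by
  intro h
  have h1 := act_r 1
  rw [h, act_one] at h1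
  exact absurd (enc_inj 1 (by decide) _ (by decide +kernel) h1) (by decide +kernel)

theorem order_r : orderOf r = 7 :=
  have : Fact (Nat.Prime 7) := ⟨by norm_num⟩
  orderOf_eq_prime r_pow_seven r_ne

/-- the centralizer of `r` is `⟨r⟩` -/
theorem mem_of_comm {g : S} (hg : g * r = r * g) : g ∈ zpowers r := by
  obtain ⟨u, hu, hgu⟩ := exists_enc (act g (enc 1))
  -- the values of the form
  have hcomm : ∀ n : ℕ, g * r ^ n = r ^ n * g := fun n => (Commute.pow_right (show Commute g r from hg) n).eq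
  have hform : ∀ n : ℕ, fN ((wf [1, 8, 3, 16, 6, 32])^[n] u) u = fN ((wf [1, 8, 3, 16, 6, 32])^[n] 1) 1 := by
    intro n
    have h1 : om (act g (act (r ^ n) (enc 1))) (act g (enc 1)) = om (act (r ^ n) (enc 1)) (enc 1) := act_om g _ _
    have h2 : act g (act (r ^ n) (enc 1)) = act (r ^ n) (act g (enc 1)) := by
      rw [← act_mul, ← act_mul, hcomm]
    rw [h2, hgu, r_pow_apply, r_pow_apply, om_enc, om_enc] at h1
    revert h1
    cases fN ((wf [1, 8, 3, 16, 6, 32])^[n] u) u <;> cases fN ((wf [1, 8, 3, 16, 6, 32])^[n] 1) 1 <;> decide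
  have key : ∀ u < 64, (fN ((wf [1, 8, 3, 16, 6, 32])^[1] u) u = fN ((wf [1, 8, 3, 16, 6, 32])^[1] 1) 1 ∧
      fN ((wf [1, 8, 3, 16, 6, 32])^[2] u) u = fN ((wf [1, 8, 3, 16, 6, 32])^[2] 1) 1 ∧
      fN ((wf [1, 8, 3, 16, 6, 32])^[3] u) u = fN ((wf [1, 8, 3, 16, 6, 32])^[3] 1) 1) →
      ∃ k < 7, u = (wf [1, 8, 3, 16, 6, 32])^[k] 1 := by
    intro u hu
    rw [it_tab 1 u hu, it_tab 2 u hu, it_tab 3 u hu]
    simp only [fun k => it_tab k 1 (by decide)]
    revert u
    decide +kernel
  obtain ⟨k, -, hk⟩ := key u hu ⟨hform 1, hform 2, hform 3⟩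
  have hgk : act g (enc 1) = act (r ^ k) (enc 1) := by rw [hgu, r_pow_apply, ← hk]
  have hgen : ∀ n : ℕ, act g (enc ((wf [1, 8, 3, 16, 6, 32])^[n] 1)) =
      act (r ^ k) (enc ((wf [1, 8, 3, 16, 6, 32])^[n] 1)) := by
    intro n
    rw [← r_pow_apply, ← act_mul, hcomm, act_mul, hgk, ← act_mul, ← act_mul, ← pow_add, ← pow_add, add_comm]
  have e : g = r ^ k := by
    apply act_ext
    intro x
    obtain ⟨c, hc, rfl⟩ := exists_enc x
    have dec : ∀ c < 64, ∃ b0 < 2, ∃ b1 < 2, ∃ b2 < 2, ∃ b3 < 2, ∃ b4 < 2, ∃ b5 < 2,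
        c = (b0 * (wf [1, 8, 3, 16, 6, 32])^[0] 1) ^^^ ((b1 * (wf [1, 8, 3, 16, 6, 32])^[1] 1) ^^^
          ((b2 * (wf [1, 8, 3, 16, 6, 32])^[2] 1) ^^^ ((b3 * (wf [1, 8, 3, 16, 6, 32])^[3] 1) ^^^
          ((b4 * (wf [1, 8, 3, 16, 6, 32])^[4] 1) ^^^ (b5 * (wf [1, 8, 3, 16, 6, 32])^[5] 1))))) := by
      decide +kernel
    obtain ⟨b0, h0, b1, h1, b2, h2, b3, h3, b4, h4, b5, h5, hcc⟩ := dec c hc
    have hz : ∀ (b : ℕ), b < 2 → ∀ n : ℕ, act g (enc (b * (wf [1, 8, 3, 16, 6, 32])^[n] 1)) =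
        act (r ^ k) (enc (b * (wf [1, 8, 3, 16, 6, 32])^[n] 1)) := by
      intro b hb n
      have : b = 0 ∨ b = 1 := by omega
      rcases this with rfl | rfl
      · rw [Nat.zero_mul]
        have h0 : enc 0 = 0 := by
          have : enc (0 ^^^ 0) = enc 0 + enc 0 := enc_xor 0 0
          rw [add_self] at this
          exact this
        have hz0 : ∀ g : S, act g 0 = 0 := by
          intro g
          have h1 := act_add g 0 0
          rw [add_zero] at h1
          rw [add_self] at h1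
          exact h1
        rw [h0, hz0, hz0]
      · rw [Nat.one_mul]; exact hgen n
    rw [hcc]
    simp only [enc_xor, act_add]
    rw [hz b0 h0, hz b1 h1, hz b2 h2, hz b3 h3, hz b4 h4, hz b5 h5]
  rw [e]
  exact pow_mem (mem_zpowers r) k

/-- **`Sp₆(2)` has no element of order 14.** -/
theorem no14 (g : S) : orderOf g ≠ 14 := by
  intro hg
  have := finite_S
  have : Fact (Nat.Prime 7) := ⟨by norm_num⟩
  have h7 : orderOf (g ^ 2) = 7 := by rw [orderOf_pow, hg]; norm_num
  -- `⟨g²⟩` and `⟨r⟩` are Sylow subgroups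
  have hfac : (Nat.card S).factorization 7 = 1 := by
    have h1 : Nat.card S ≠ 0 := Nat.card_pos.ne'
    rw [card_S] at h1 ⊢
    have h2 : 7 ^ 1 ∣ 1451520 := by norm_num
    have h3 : ¬ 7 ^ 2 ∣ 1451520 := by norm_num
    have h4 := ((by norm_num : Nat.Prime 7).pow_dvd_iff_le_factorization h1).1 h2
    by_contra hne
    exact h3 (((by norm_num : Nat.Prime 7).pow_dvd_iff_le_factorization h1).2 (by omega))
  have hc1 : Nat.card (zpowers (g ^ 2)) = 7 ^ (Nat.card S).factorization 7 := by
    rw [Nat.card_zpowers, h7, hfac]; norm_num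
  have hc2 : Nat.card (zpowers r) = 7 ^ (Nat.card S).factorization 7 := by
    rw [Nat.card_zpowers, order_r, hfac]; norm_num
  let P : Sylow 7 S := Sylow.ofCard (zpowers (g ^ 2)) hc1
  let Q : Sylow 7 S := Sylow.ofCard (zpowers r) hc2
  obtain ⟨h, hh⟩ := MulAction.exists_smul_eq S P Q
  have hmem : h * (g ^ 2) * h⁻¹ ∈ zpowers r := by
    have h1 : h * (g ^ 2) * h⁻¹ ∈ ((h • P : Sylow 7 S) : Subgroup S) := by
      rw [Sylow.coe_subgroup_smul]
      exact Subgroup.smul_mem_pointwise_smul _ (MulAut.conj h) _ (mem_zpowers _)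
    rw [hh] at h1
    exact h1
  have hrm : r ∈ zpowers (h * (g ^ 2) * h⁻¹) := by
    have hle : zpowers (h * (g ^ 2) * h⁻¹) ≤ zpowers r := by rwa [zpowers_le]
    have heq : zpowers (h * (g ^ 2) * h⁻¹) = zpowers r := by
      apply Subgroup.eq_of_le_of_card_ge hle
      rw [Nat.card_zpowers, Nat.card_zpowers, order_r]
      have : orderOf (h * g ^ 2 * h⁻¹) = orderOf (g ^ 2) := by
        have h2 := orderOf_injective (MulAut.conj h).toMonoidHom (MulAut.conj h).injective (g ^ 2)
        simpa only [MulAut.conj_apply, _root_.MulEquiv.toMonoidHom_eq_coe, _root_.MonoidHom.coe_coe] using h2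
      rw [this, h7]
    rw [heq]; exact mem_zpowers r
  obtain ⟨n, hn⟩ := mem_zpowers_iff.1 hrm
  have hcm : (h * g * h⁻¹) * r = r * (h * g * h⁻¹) := by
    have h1 : Commute (h * g * h⁻¹) (h * g ^ 2 * h⁻¹) := by
      rw [← conj_pow]
      exact Commute.pow_right (Commute.refl _) 2
    rw [← hn]
    exact (h1.zpow_right n).eq
  have hin := mem_of_comm hcm
  have h2 : orderOf (h * g * h⁻¹) ∣ 7 := by
    rw [← order_r]
    obtain ⟨m, hm⟩ := mem_zpowers_iff.1 hin
    rw [← hm]
    apply orderOf_dvd_of_pow_eq_one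
    rw [← zpow_natCast, ← zpow_mul, mul_comm, zpow_mul, zpow_natCast, pow_orderOf_eq_one, one_zpow]
  have h3 : orderOf (h * g * h⁻¹) = orderOf g := by
    have h2 := orderOf_injective (MulAut.conj h).toMonoidHom (MulAut.conj h).injective g
    simpa only [MulAut.conj_apply, _root_.MulEquiv.toMonoidHom_eq_coe, _root_.MonoidHom.coe_coe] using h2
  rw [h3, hg] at h2
  norm_num at h2

/-- an element of order 28 of `2.Sp₆(2)` does not have the central involution as a power -/
theorem cover {C : Type*} [Group C] {z : C} {π : C →* S} (N : Cfsg.Agent.SporRec.TwoSp6.CInvol.NS z π) {x : C}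
    (hx : orderOf x = 28) (hz : x ^ 14 = z) : False := by
  have h1 : orderOf (π x) ∣ 14 := orderOf_dvd_of_pow_eq_one (by rw [← map_pow, hz, N.map_z])
  have h2 : π (x ^ orderOf (π x)) = 1 := by rw [map_pow, pow_orderOf_eq_one]
  have h3 : 28 ∣ orderOf (π x) * 2 := by
    rw [← hx]
    apply orderOf_dvd_of_pow_eq_one
    rw [pow_mul]
    rcases N.ker _ h2 with h | h
    · rw [h, one_pow]
    · rw [h, pow_two, N.z_sq]
  apply no14 (π x)
  obtain ⟨k, hk⟩ := h3
  have := Nat.dvd_antisymm h1 ⟨k, by omega⟩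
  exact this

end Cfsg.Agent.H815.Co.Sep14
end

-- part: H815/Co/Co3No28
section
/-!
# `Co₃` has no element of order 28 (helper815, task 2818)
-/

set_option autoImplicit false

namespace Cfsg.Agent.H815.Co.Co3No28

open Subgroup Cfsg
open Cfsg.Agent.SporRec.TwoSp6.Sp Cfsg.Agent.SporRec.TwoSp6.CInvol
open Cfsg.Agent.SporRec.Co3.Fusion (tC)
open Cfsg.Agent.SporRec.Co3.Chain Cfsg.Agent.SporRec.Co3.Ident Cfsg.Agent.SigZero

/-- an involution commuting with an element of order 7 is of type `2A` -/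
theorem inv_of_seven {s x : G3} (hs2 : s * s = 1) (hs1 : s ≠ 1) (hx : orderOf x = 7) (hc : x * s = s * x) :
    ∃ g, g * Z * g⁻¹ = s := by
  obtain ⟨e⟩ := SigZero.CoThree.exists_equiv
  rcases SigZero.CoThree.classes (w := e CoThreeB.wK) (by rw [← map_mul, CoThreeB.wK_sq, map_one])
      (fun h => CoThreeB.wK_ne ((map_eq_one_iff e e.injective).1 h))
      (by
        rw [Cfsg.Agent.H729.PairCo3N.card_centralizer_map]
        exact SigZero.CoThree.card_C_le) hs2 hs1 with h | ⟨g, hg⟩
  · exact h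
  · exfalso
    -- `y = e⁻¹ (g⁻¹ x g)` commutes with `wK`
    let y : CoThreeB.K := e.symm (g⁻¹ * x * g)
    have hy : y * CoThreeB.wK = CoThreeB.wK * y := by
      apply e.injective
      rw [map_mul, map_mul, e.apply_symm_apply]
      have h1 : e CoThreeB.wK = g⁻¹ * s * g := by rw [← hg]; group
      rw [h1]
      calc g⁻¹ * x * g * (g⁻¹ * s * g) = g⁻¹ * (x * s) * g := by group
        _ = g⁻¹ * (s * x) * g := by rw [hc]
        _ = _ := by group
    have hyo : orderOf y = 7 := by
      rw [MulEquiv.orderOf_eq]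
      rw [← hx]
      have h2 := orderOf_injective (MulAut.conj g⁻¹).toMonoidHom (MulAut.conj g⁻¹).injective x
      simpa only [MulAut.conj_apply, _root_.map_inv, _root_.MulEquiv.toMonoidHom_eq_coe, _root_.MonoidHom.coe_coe, _root_.MulAut.inv_apply, _root_.MulAut.conj_symm_apply] using h2
    let yc : centralizer ({CoThreeB.wK} : Set CoThreeB.K) := ⟨y, mem_centralizer_singleton_iff.2 hy⟩
    have hyc : orderOf yc = 7 := by rw [← hyo]; exact Subgroup.orderOf_mk _ _
    have hf : Finite Spor.M12 := Nat.finite_of_card_ne_zero (by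
      rw [Cfsg.Agent.MTwelveType.SylowModel.card_M12]; norm_num)
    have h1 : orderOf (CoThreeB.proj yc) ∣ 7 := by rw [← hyc]; exact orderOf_map_dvd _ _
    have h2 : orderOf (CoThreeB.proj yc) ∣ 95040 := by
      rw [← Cfsg.Agent.MTwelveType.SylowModel.card_M12]; exact _root_.orderOf_dvd_natCard _
    have h3 : orderOf (CoThreeB.proj yc) = 1 := by
      have h4 := Nat.dvd_gcd h1 h2
      norm_num at h4
      rw [h4]
      exact orderOf_one
    have h4 : CoThreeB.proj yc = 1 := orderOf_eq_one_iff.1 h3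
    rcases CoThreeB.ker_proj h4 with h5 | h5
    · rw [h5, orderOf_one] at hyc
      norm_num at hyc
    · have h6 : yc ^ 2 = 1 := by
        apply Subtype.ext
        rw [pow_two, Subgroup.coe_mul, h5]
        exact CoThreeB.wK_sq
      have h7 := orderOf_dvd_of_pow_eq_one h6
      rw [hyc] at h7
      norm_num at h7

theorem g3_no28 (x : G3) : orderOf x ≠ 28 := by
  intro hx
  obtain ⟨π, N⟩ := KFacts.Co3D4.exists_NS_G3
  have hs2 : x ^ 14 * x ^ 14 = 1 := by
    rw [← pow_add, show 14 + 14 = orderOf x from hx.symm]; exact pow_orderOf_eq_one x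
  have hs1 : x ^ 14 ≠ 1 := fun h => by
    have := orderOf_dvd_of_pow_eq_one h
    rw [hx] at this
    norm_num at this
  have h7 : orderOf (x ^ 4) = 7 := by rw [orderOf_pow, hx]; norm_num
  obtain ⟨g, hg⟩ := inv_of_seven hs2 hs1 h7 (by rw [← pow_add, ← pow_add, add_comm])
  have hg' : (g⁻¹ * x * g) ^ 14 = Z := by
    have : (g⁻¹ * x * g⁻¹⁻¹) ^ 14 = g⁻¹ * x ^ 14 * g⁻¹⁻¹ := conj_pow
    rw [inv_inv] at this
    rw [this, ← hg]; group
  have hcm : (g⁻¹ * x * g) * Z = Z * (g⁻¹ * x * g) := by rw [← hg', ← pow_succ, ← pow_succ']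
  let xc : centralizer ({Z} : Set G3) := ⟨g⁻¹ * x * g, mem_centralizer_singleton_iff.2 hcm⟩
  have hxc : orderOf xc = 28 := by
    have h1 : orderOf xc = orderOf (g⁻¹ * x * g) := by exact Subgroup.orderOf_mk _ _
    rw [h1, ← hx]
    have h2 := orderOf_injective (MulAut.conj g⁻¹).toMonoidHom (MulAut.conj g⁻¹).injective x
    simpa only [MulAut.conj_apply, _root_.map_inv, _root_.MulEquiv.toMonoidHom_eq_coe, _root_.MonoidHom.coe_coe, _root_.MulAut.inv_apply, _root_.MulAut.conj_symm_apply] using h2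
  exact Sep14.cover N hxc (Subtype.ext hg')

/-- **`Co₃` has no element of order 28.** -/
theorem no28 (x : Spor.Co3) : orderOf x ≠ 28 := by
  intro hx
  apply g3_no28 (SporRec.Co3.Model.equivCo3.symm x)
  rw [MulEquiv.orderOf_eq, hx]

end Cfsg.Agent.H815.Co.Co3No28
end

-- part: H815/Co/Co2Has28
section
/-!
# `Co₂` has an element of order 28 (helper815, task 2818)

The monomial element `ε_C σ` with `σ` in `M24` of cycle type `1 2 7 14` and `C` a codeword disjoint from the octad
`1 + 7` which meets the 2-cycle in one point.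
-/

set_option autoImplicit false

namespace Cfsg.Agent.H815.Co.Co2Has28

open Cfsg Cfsg.Agent.SporadicA.Co0Mono Cfsg.Agent.SporadicA.GolayBase
open Cfsg.Agent.H419.Spor.Mathieu

/-- the permutation -/
noncomputable def τ (i : GolayPt) : GolayPt := (cubeTwist * M * T) i

/-- the codeword -/
def w : GolayPt → ZMod 2 := word 3277413

theorem w_mem : w ∈ golayCode := by
  show word 3277413 ∈ golayCode
  rw [mem_golayCode_iff, maskW_word (by norm_num)]
  decide +kernel

/-- the element -/
noncomputable def g : Co0 := signCo0 ⟨w, w_mem⟩ * permCo0 x14⁻¹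

theorem g_smul (v : leechLattice) (i : GolayPt) :
    ((g • v : leechLattice) : GolayPt → ℤ) i = sgn (w i) * (v : GolayPt → ℤ) (τ i) := by
  have h1 : g • v = signCo0 ⟨w, w_mem⟩ • (permCo0 x14⁻¹ • v) := mul_smul _ _ _
  rw [h1, signCo0_smul, signMap_apply, permCo0_smul, permMap_apply]
  rfl

/-- the signs -/
noncomputable def sg : ℕ → GolayPt → ℤ
  | 0, _ => 1
  | n + 1, i => sgn (w i) * sg n (τ i)

theorem g_pow_smul (n : ℕ) (v : leechLattice) (i : GolayPt) :
    ((g ^ n • v : leechLattice) : GolayPt → ℤ) i = sg n i * (v : GolayPt → ℤ) (τ^[n] i) := by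
  induction n generalizing i with
  | zero => rw [pow_zero, one_smul]; show _ = 1 * _; rw [one_mul]; rfl
  | succ n ih =>
    rw [pow_succ', mul_smul, g_smul, ih, Function.iterate_succ_apply]
    show _ = sgn (w i) * sg n (τ i) * _
    rw [mul_assoc]

private def τt (i : GolayPt) : GolayPt := pt (Nat.mod (Nat.shiftRight 0xb82965bd33616a3939446c50780446 (Nat.mul 5 (idx i))) 32)

private theorem τ_eq : τ = τt := funext (by decide +kernel)

private noncomputable def sgt : ℕ → GolayPt → ℤ
  | 0, _ => 1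
  | n + 1, i => sgn (w i) * sgt n (τt i)

private theorem sg_eq (n : ℕ) : ∀ i, sg n i = sgt n i := by
  induction n with
  | zero => exact fun _ => rfl
  | succ n ih =>
    intro i
    change sgn (w i) * sg n (τ i) = sgn (w i) * sgt n (τt i)
    rw [ih, τ_eq]

theorem pow28 : g ^ 28 = 1 := by
  apply ext
  intro v
  apply Subtype.ext
  funext i
  rw [g_pow_smul, one_smul]
  have key : ∀ i, sgt 28 i = 1 ∧ τt^[28] i = i := by decide +kernel
  rw [sg_eq, τ_eq, (key i).1, (key i).2, one_mul]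

theorem pow14 : g ^ 14 ≠ 1 := by
  intro h
  have h1 := g_pow_smul 14 Spor.leechV (some 0)
  have hv : ((Spor.leechV : leechLattice) : GolayPt → ℤ) = Spor.vecV := rfl
  rw [h, one_smul, hv] at h1
  have key : ¬ Spor.vecV (some 0) = sg 14 (some 0) * Spor.vecV (τ^[14] (some 0)) := by decide +kernel
  exact key h1

theorem pow4 : g ^ 4 ≠ 1 := by
  intro h
  have h1 := g_pow_smul 4 Spor.leechV (some 4)
  have hv : ((Spor.leechV : leechLattice) : GolayPt → ℤ) = Spor.vecV := rfl
  rw [h, one_smul, hv] at h1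
  have key : ¬ Spor.vecV (some 4) = sg 4 (some 4) * Spor.vecV (τ^[4] (some 4)) := by decide +kernel
  exact key h1

theorem order_g : orderOf g = 28 := by
  refine orderOf_eq (by norm_num) pow28 ?_
  intro p hp
  have h3 : p = 2 ∨ p = 7 := by
    have : p ∈ ({2, 7} : Finset ℕ) := by
      rw [show ({2, 7} : Finset ℕ) = (28 : ℕ).primeFactors by decide +kernel]
      exact hp
    simpa using this
  rcases h3 with rfl | rfl
  · exact pow14
  · exact pow4

/-- half of the fixed vector -/
def zO : GolayPt → ℤ := fun i => if (9279496 : ℕ).testBit (idx i) then 1 else 0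

/-- the fixed vector `(2^8, 0^16)` -/
def vecO : GolayPt → ℤ := fun i => 2 * zO i

theorem vecO_mem : vecO ∈ leechLattice := by
  rw [Cfsg.Agent.SporadicStructure.LeechBase.mem_leech_iff]
  refine ⟨0, zO, ?_, by decide +kernel, fun i => by rw [zero_add]; rfl⟩
  have h1 : Cfsg.Agent.SporadicStructure.LeechBase.red zO = word 9279496 := by
    funext i
    show ((zO i : ℤ) : ZMod 2) = word 9279496 i
    rw [word_apply]
    unfold zO
    split_ifs <;> simp
  rw [h1, mem_golayCode_iff, maskW_word (by norm_num)]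
  decide +kernel

/-- the fixed vector -/
def leechO : leechLattice := ⟨vecO, vecO_mem⟩

theorem g_fix : g • leechO = leechO := by
  apply Subtype.ext
  funext i
  have hv : ((leechO : leechLattice) : GolayPt → ℤ) = vecO := rfl
  rw [g_smul, hv]
  have key : ∀ i, sgn (w i) * vecO (τ i) = vecO i := by decide +kernel
  exact key i

theorem exists_c : ∃ c : Co0, c • Spor.leechU = leechO := by
  refine Cfsg.Agent.Leech.Trans.co0_transitive_min _ _ ?_ ?_
  · show sqNorm Spor.vecU = 32
    decide +kernel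
  · show sqNorm vecO = 32
    decide +kernel

/-- **`Co₂` has an element of order 28.** -/
theorem has28 : ∃ x : Spor.Co2, orderOf x = 28 := by
  obtain ⟨c, hc⟩ := exists_c
  let inc : Spor.Co2 →* Co0 :=
    { toFun := fun γ => ⟨γ.1, γ.2.1⟩
      map_one' := rfl
      map_mul' := fun _ _ => rfl }
  have hinj : Function.Injective inc := fun a b h =>
    Subtype.ext (congrArg (fun z : Co0 => (z : Equiv.Perm leechLattice)) h)
  have hfix : (c⁻¹ * g * c) • Spor.leechU = Spor.leechU := by
    rw [mul_smul, mul_smul, hc, g_fix, ← hc, inv_smul_smul]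
  refine ⟨⟨(c⁻¹ * g * c).1, (c⁻¹ * g * c).2, hfix⟩, ?_⟩
  rw [← orderOf_injective inc hinj]
  have h1 : inc ⟨(c⁻¹ * g * c).1, (c⁻¹ * g * c).2, hfix⟩ = c⁻¹ * g * c := rfl
  rw [h1, ← order_g]
  have h2 := orderOf_injective (MulAut.conj c⁻¹).toMonoidHom (MulAut.conj c⁻¹).injective g
  simpa only [MulAut.conj_apply, _root_.map_inv, _root_.MulEquiv.toMonoidHom_eq_coe, _root_.MonoidHom.coe_coe, _root_.MulAut.inv_apply, _root_.MulAut.conj_symm_apply] using h2

end Cfsg.Agent.H815.Co.Co2Has28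
end

-- part: H815/CoSep
section
/-!
# `28` is the order of an element of `Co₂` and not of `Co₃` (helper815, task 2818 of helper385 for S3666)
-/

set_option autoImplicit false

namespace Cfsg.Agent.H815.CoSep

theorem sep28 : (∃ x : Cfsg.Spor.Co2, orderOf x = 28) ∧ ¬ ∃ y : Cfsg.Spor.Co3, orderOf y = 28 :=
  ⟨Co.Co2Has28.has28, fun ⟨y, hy⟩ => Co.Co3No28.no28 y hy⟩

end Cfsg.Agent.H815.CoSep
end
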