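import Cfsg.Agent.H815.Six3Minus_mg
import Cfsg.Agent.H343.WitCl_m3
import Cfsg.Agent.S1573
import Cfsg.Agent.S1577
import Cfsg.Agent.H261.ExcThreeTw_m3
import Cfsg.Agent.Prune
set_option linter.all false
prune_inst 0x7f00000000000000000000000000000000000000000000000000000000000000000000000000000000000000000000000000000000000000000000000000000000000000000000000000000000000000003fffffffffffffffffffffffffffbeffbdffffffff
open scoped Cfsg.Agent.FastGrp

-- part: H815/SixCoTwo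
section
/-!
# The same element in the Conway group `Co_2` (helper815)

`exists_coTwo` : the subgroup `U_6(2)` of `Co_2` contains an element `z` of order three with `|C_{U_6(2)}(z)| = 2^6 3^6`.
-/

set_option autoImplicit false

namespace Cfsg.Agent.H815.SixCentral

open Matrix Cfsg Cfsg.Spor

/-- `U_6(2)` in `Co_2` -/
theorem exists_hom_coTwo (F : Type) [Field F] [Fintype F] (hF : Fintype.card F = 4) :
    ∃ f : PSU 6 F 2 →* Co2, Function.Injective f := by
  have hv : sqNorm ((leechU : leechLattice) : GolayPt → ℤ) = 32 := by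
    change sqNorm vecU = 32
    decide
  obtain ⟨w, hw0, hw, hd⟩ : {w : GolayPt → ℤ | w ∈ leechLattice ∧ sqNorm w = 32 ∧
      dotInt ((leechU : leechLattice) : GolayPt → ℤ) w = -16}.Nonempty := by
    apply Set.nonempty_of_ncard_ne_zero
    rw [(S1573.result _ leechU.2 hv).1]
    norm_num
  obtain ⟨e⟩ := S1577.result leechU ⟨w, hw0⟩ hv hw hd F hF
  let j : ↥(MulAction.stabilizer Co0 leechU ⊓ MulAction.stabilizer Co0 (⟨w, hw0⟩ : leechLattice)) →* Co2 :=
    { toFun := fun x => ⟨x.1.1, x.1.2, x.2.1⟩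
      map_one' := rfl
      map_mul' := fun _ _ => rfl }
  refine ⟨j.comp e.symm.toMonoidHom, ?_⟩
  intro a b h
  have h1 : ((e.symm a).1 : Co0).1 = ((e.symm b).1 : Co0).1 := congrArg (fun x : Co2 => (x : Equiv.Perm leechLattice)) h
  exact e.symm.injective (Subtype.ext (Subtype.ext h1))

theorem exists_field_four : ∃ (F : Type) (_ : Field F) (_ : Fintype F), Fintype.card F = 4 := by
  have : Fact (Nat.Prime 2) := ⟨Nat.prime_two⟩
  let _ : Fintype (GaloisField 2 2) := Fintype.ofFinite _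
  refine ⟨GaloisField 2 2, inferInstance, inferInstance, ?_⟩
  rw [← Nat.card_eq_fintype_card, GaloisField.card 2 2 (by norm_num)]
  norm_num

/-- `|C_{U_6(2)}(z)| = 2^6 3^6` -/
theorem exists_psu_six_two {F : Type} [Field F] [Fintype F] (hF : Fintype.card F = 4) :
    ∃ z : PSU 6 F 2, orderOf z = 3 ∧ Nat.card (Subgroup.centralizer ({z} : Set (PSU 6 F 2))) = 46656 := by
  obtain ⟨z, hz, h⟩ := exists_psu (F := F) (q := 2) hF (by norm_num)
  refine ⟨z, hz, ?_⟩
  norm_num at h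
  omega

theorem exists_coTwo [Finite Co2] :
    ∃ z : Co2, orderOf z = 3 ∧ 46656 ∣ Nat.card (Subgroup.centralizer ({z} : Set Co2)) := by
  obtain ⟨F, _, _, hF⟩ := exists_field_four
  obtain ⟨f, hf⟩ := exists_hom_coTwo F hF
  obtain ⟨z, hz, hc⟩ := exists_psu_six_two hF
  refine ⟨f z, (orderOf_injective f hf z).trans hz, ?_⟩
  have h1 := H343.card_dvd_centralizer
    (f.comp (Subgroup.centralizer ({z} : Set (PSU 6 F 2))).subtype) (hf.comp Subtype.val_injective) (f z) (by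
      intro b
      have h2 := Subgroup.mem_centralizer_singleton_iff.mp b.2
      change f z * f b.1 = f b.1 * f z
      rw [← map_mul, ← map_mul, h2])
  rwa [hc] at h1

end Cfsg.Agent.H815.SixCentral
end

-- part: H815/HnFin
section
/-!
# `HN` among the known simple groups (helper815)

`final` : a known simple group `L` with `|L|_3 = 3^6`, abelian 3-subgroups of order at most `3^4`, all centralizers
of order divisible by `3^6` of elements of order three of order `29160`, and `|L| = 29160 n` with `n = 5, 8 mod 9` is `HN`.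
-/

set_option autoImplicit false

namespace Cfsg.Agent.H815.HnFin

open Cfsg Cfsg.Agent.OrdDiv H815.Six3

universe u

/-- the data -/
structure Hn6 (L : Type*) [Group L] : Prop where
  hyp : Hyp L
  idx : ∃ n, Nat.card L = 29160 * n ∧ (n % 9 = 5 ∨ n % 9 = 8)
  cen : ∀ y : L, orderOf y = 3 → 3 ^ 6 ∣ Nat.card (Subgroup.centralizer ({y} : Set L)) →
    Nat.card (Subgroup.centralizer ({y} : Set L)) = 29160
  ex : ∃ y : L, orderOf y = 3 ∧ Nat.card (Subgroup.centralizer ({y} : Set L)) = 29160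

theorem Hn6.finite {L : Type*} [Group L] (h : Hn6 L) : Finite L := by
  obtain ⟨n, hn, h1⟩ := h.idx
  apply Nat.finite_of_card_ne_zero
  rw [hn]
  omega

theorem Hn6.congr {L : Type*} [Group L] {M : Type*} [Group M] (h : Hn6 L) (e : L ≃* M) : Hn6 M where
  hyp := h.hyp.congr e
  idx := by
    rw [← Nat.card_congr e.toEquiv]
    exact h.idx
  cen := by
    intro y hy hd
    have h1 := H343.card_centralizer_equiv e.symm y
    rw [← h1] at hd ⊢
    exact h.cen _ ((MulEquiv.orderOf_eq e.symm y).trans hy) hd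
  ex := by
    obtain ⟨y, hy, hc⟩ := h.ex
    exact ⟨e y, (MulEquiv.orderOf_eq e y).trans hy, (H343.card_centralizer_equiv e y).trans hc⟩

theorem Hn6.exists_cube {L : Type*} [Group L] (h : Hn6 L) :
    ∃ y : L, y ^ 3 = 1 ∧ Nat.card (Subgroup.centralizer ({y} : Set L)) = 29160 := by
  obtain ⟨y, hy, hc⟩ := h.ex
  exact ⟨y, by rw [← hy, pow_orderOf_eq_one], hc⟩

theorem pow6 {q : ℕ} (h2 : 2 ≤ q) (h3 : ¬ 3 ∣ q) (h : q ^ 6 ∣ 174960) : False := by
  have h1 : q < 8 := by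
    by_contra hc
    have h4 : 8 ^ 6 ≤ q ^ 6 := Nat.pow_le_pow_left (by omega) 6
    have h5 := Nat.le_of_dvd (by norm_num) h
    norm_num at h4
    omega
  interval_cases q <;> revert h h3 <;> decide

theorem pow9 {q : ℕ} (h2 : 2 ≤ q) (h3 : ¬ 3 ∣ q) (h : q ^ 9 ∣ 29160) : False :=
  pow6 h2 h3 (((pow_dvd_pow q (by norm_num)).trans h).trans (by norm_num))

/-- the centralizer in `PSL_6(q)` -/
theorem psl6 {F : Type*} [Field F] [Fintype F] {q : ℕ} (hF : Fintype.card F = q) (hq : q % 9 = 4 ∨ q % 9 = 7)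
    (h : Hn6 (Matrix.ProjectiveSpecialLinearGroup (Fin 6) F)) : False := by
  have hq2 : 2 ≤ q := by
    rw [← hF]
    exact Fintype.one_lt_card
  obtain ⟨r, hr⟩ : ∃ r, q = 3 * r + 1 := ⟨q / 3, by omega⟩
  have hd1 : 3 ∣ q - 1 := ⟨r, by omega⟩
  obtain ⟨z, hz, hc⟩ := SixCentral.exists_psl hF hd1
  have hd2 : 3 ∣ q ^ 2 - 1 := by
    have := Nat.sub_dvd_pow_sub_pow q 1 2
    rw [one_pow] at this
    exact hd1.trans this
  have hd3 : 9 ∣ q ^ 3 - 1 := by
    have e : q ^ 3 - 1 = 9 * (3 * r ^ 3 + 3 * r ^ 2 + r) := by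
      rw [hr]
      have : (3 * r + 1) ^ 3 = 9 * (3 * r ^ 3 + 3 * r ^ 2 + r) + 1 := by ring
      omega
    exact ⟨_, e⟩
  have h1 : 3 ^ 7 ∣ 6 * Nat.card (Subgroup.centralizer ({z} : Set (Matrix.ProjectiveSpecialLinearGroup (Fin 6) F))) := by
    have h2 : 3 * (1 * 3 * 9) ^ 2 ∣ (q - 1) * (q ^ 3 * (q ^ 2 - 1) * (q ^ 3 - 1)) ^ 2 :=
      Nat.mul_dvd_mul hd1 (pow_dvd_pow_of_dvd (Nat.mul_dvd_mul (Nat.mul_dvd_mul (one_dvd _) hd2) hd3) 2)
    rw [← hc] at h2
    exact (h2.trans (Nat.mul_dvd_mul_right (Nat.gcd_dvd_left 6 (q - 1)) _))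
  have h2 : 3 ^ 6 ∣ Nat.card (Subgroup.centralizer ({z} : Set (Matrix.ProjectiveSpecialLinearGroup (Fin 6) F))) := by
    omega
  have h3 := h.cen z hz h2
  rw [h3] at hc
  have h4 : q ^ 6 ∣ 174960 := by
    have h5 : q ^ 6 ∣ (q - 1) * (q ^ 3 * (q ^ 2 - 1) * (q ^ 3 - 1)) ^ 2 :=
      ⟨(q - 1) * ((q ^ 2 - 1) * (q ^ 3 - 1)) ^ 2, by ring⟩
    rw [← hc] at h5
    exact h5.trans (Nat.mul_dvd_mul_right (Nat.gcd_dvd_left 6 (q - 1)) 29160)
  exact pow6 hq2 (by omega) h4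

/-- the centralizer in `PSU_6(q)` -/
theorem psu6 {F : Type*} [Field F] [Fintype F] {q : ℕ} (hF : Fintype.card F = q ^ 2) (hq : q % 9 = 2 ∨ q % 9 = 5)
    (h : Hn6 (PSU 6 F q)) : False := by
  have hq2 := ClassicalGeometry.GUBasic.two_le hF
  obtain ⟨r, hr⟩ : ∃ r, q = 3 * r + 2 := ⟨q / 3, by omega⟩
  have hd1 : 3 ∣ q + 1 := ⟨r + 1, by omega⟩
  obtain ⟨z, hz, hc⟩ := SixCentral.exists_psu hF hd1
  have hd2 : 3 ∣ q ^ 2 - 1 := by
    have hq2 : q ^ 2 - 1 = (q + 1) * (q - 1) := by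
      have := Nat.sq_sub_sq q 1
      simpa using this
    rw [hq2]
    exact hd1.mul_right _
  have hd3 : 9 ∣ q ^ 3 + 1 := by
    have e : q ^ 3 + 1 = 9 * (3 * r ^ 3 + 6 * r ^ 2 + 4 * r + 1) := by
      rw [hr]
      ring
    exact ⟨_, e⟩
  have h1 : 3 ^ 7 ∣ 6 * Nat.card (Subgroup.centralizer ({z} : Set (PSU 6 F q))) := by
    have h2 : 3 * (1 * 3 * 9) ^ 2 ∣ (q + 1) * (q ^ 3 * (q ^ 2 - 1) * (q ^ 3 + 1)) ^ 2 :=
      Nat.mul_dvd_mul hd1 (pow_dvd_pow_of_dvd (Nat.mul_dvd_mul (Nat.mul_dvd_mul (one_dvd _) hd2) hd3) 2)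
    rw [← hc] at h2
    exact (h2.trans (Nat.mul_dvd_mul_right (Nat.gcd_dvd_left 6 (q + 1)) _))
  have h2 : 3 ^ 6 ∣ Nat.card (Subgroup.centralizer ({z} : Set (PSU 6 F q))) := by
    omega
  have h3 := h.cen z hz h2
  rw [h3] at hc
  have h4 : q ^ 6 ∣ 174960 := by
    have h5 : q ^ 6 ∣ (q + 1) * (q ^ 3 * (q ^ 2 - 1) * (q ^ 3 + 1)) ^ 2 :=
      ⟨(q + 1) * ((q ^ 2 - 1) * (q ^ 3 + 1)) ^ 2, by ring⟩
    rw [← hc] at h5
    exact h5.trans (Nat.mul_dvd_mul_right (Nat.gcd_dvd_left 6 (q + 1)) 29160)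
  exact pow6 hq2 (by omega) h4

theorem coTwo (h : Hn6 Spor.Co2) : False := by
  have := h.finite
  obtain ⟨z, hz, hc⟩ := SixCentral.exists_coTwo
  have h1 := h.cen z hz ((by norm_num : 3 ^ 6 ∣ 46656).trans hc)
  rw [h1] at hc
  revert hc
  decide

/-- characteristic different from three -/
theorem char_ne_three {F : Type*} [Field F] [Fintype F] (r : ℕ) [CharP F r] (h : ¬ 3 ∣ Fintype.card F) : r ≠ 3 := by
  rintro rfl
  have : Fact (Nat.Prime 3) := ⟨Nat.prime_three⟩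
  obtain ⟨n, _, hn⟩ := FiniteField.card F 3
  apply h
  rw [hn]
  exact dvd_pow_self 3 n.2.ne'

theorem f4 {F : Type} [Field F] [Fintype F] (h3 : ¬ 3 ∣ Fintype.card F) (h : Hn6 ↥(Lie.chevF4.group F)) : False := by
  obtain ⟨r, hr⟩ := CharP.exists F
  have hp : Fact r.Prime := ⟨CharP.char_is_prime F r⟩
  obtain ⟨z, hz, hc⟩ := h.exists_cube
  have h1 := H261.pow_dvd_F4 F (char_ne_three r h3) z hz
  rw [hc, Nat.card_eq_fintype_card] at h1
  exact pow6 Fintype.one_lt_card h3 (h1.trans (by norm_num))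

theorem e6 {F : Type} [Field F] [Fintype F] (h3 : ¬ 3 ∣ Fintype.card F) (h : Hn6 ↥(Lie.chevE6.group F)) : False := by
  obtain ⟨r, hr⟩ := CharP.exists F
  have hp : Fact r.Prime := ⟨CharP.char_is_prime F r⟩
  obtain ⟨z, hz, hc⟩ := h.exists_cube
  have h1 := H261.pow_dvd_E6 F (char_ne_three r h3) z hz
  rw [hc, Nat.card_eq_fintype_card] at h1
  exact pow9 Fintype.one_lt_card h3 h1

/-- the characteristic of a field of order `q ^ k` -/
theorem exists_char {F : Type*} [Field F] [Fintype F] {q k : ℕ} (hq : IsPrimePow q) (_hk : k ≠ 0)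
    (hF : Fintype.card F = q ^ k) (h3 : ¬ 3 ∣ q) :
    ∃ (r n : ℕ), ∃ (_ : Fact r.Prime) (_ : CharP F r), r ≠ 3 ∧ 0 < n ∧ q = r ^ n := by
  obtain ⟨r, n, hr, hn, rfl⟩ := (isPrimePow_nat_iff _).1 hq
  obtain ⟨s, hs⟩ := CharP.exists F
  have hp : Fact s.Prime := ⟨CharP.char_is_prime F s⟩
  obtain ⟨m, _, hm⟩ := FiniteField.card F s
  have h1 : s = r := by
    have h2 : s ∣ (r ^ n) ^ k := by
      rw [← hF, hm]
      exact dvd_pow_self s m.2.ne'
    exact (Nat.prime_dvd_prime_iff_eq hp.out hr).1 (hp.out.dvd_of_dvd_pow (hp.out.dvd_of_dvd_pow h2))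
  subst h1
  refine ⟨s, n, hp, hs, ?_, hn, rfl⟩
  rintro rfl
  exact h3 (dvd_pow_self 3 hn.ne')

theorem te6 {F : Type} [Field F] [Fintype F] {q : ℕ} (hq : IsPrimePow q) (hF : Fintype.card F = q ^ 2) (h3 : ¬ 3 ∣ q)
    (h : Hn6 ↥(Lie.twistedE6 F q)) : False := by
  obtain ⟨r, n, hp, hr, hr3, hn, hqn⟩ := exists_char hq (by norm_num) hF h3
  obtain ⟨z, hz, hc⟩ := h.exists_cube
  have h1 := H261.Tw.pow_dvd_twE6 F hr3 hn hqn hF z hz
  rw [hc] at h1
  exact pow9 hq.two_le h3 h1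

theorem td4 (T : OrderTable.{u}) {F : Type} [Field F] [Fintype F] {q : ℕ} (hq : IsPrimePow q) (hF : Fintype.card F = q ^ 3)
    (h3 : ¬ 3 ∣ q) (h : Hn6 ↥(Lie.twistedD4 F q)) : False := by
  obtain ⟨r, n, hp, hr, hr3, hn, hqn⟩ := exists_char hq (by norm_num) hF h3
  obtain ⟨z, hz, hc⟩ := h.exists_cube
  have h1 := H261.Tw.pow_dvd_twD4 F hr3 hn hqn hF z hz
  rw [hc] at h1
  have h2 : q = 2 := by
    have h2 := hq.two_le
    have h4 : q < 31 := by
      by_contra hcon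
      have h4 : 31 ^ 3 ≤ q ^ 3 := Nat.pow_le_pow_left (by omega) 3
      have h5 := Nat.le_of_dvd (by norm_num) h1
      norm_num at h4
      omega
    interval_cases q <;> first | rfl | (exfalso; revert h1 h3; decide)
  subst h2
  have h4 := T.td4 F 2 hq hF
  obtain ⟨m, hm, -⟩ := h.idx
  rw [h4] at hm
  norm_num at hm
  omega

/-- a known order -/
theorem kill {L : Type*} [Group L] (h : Hn6 L) {den num : ℕ} (hd : den * Nat.card L = num)
    (hb : num % (den * 29160) ≠ 0 ∨ ((num / (den * 29160)) % 9 ≠ 5 ∧ (num / (den * 29160)) % 9 ≠ 8)) (h0 : 0 < den) : False := by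
  obtain ⟨n, hn, hn9⟩ := h.idx
  rw [hn, ← mul_assoc] at hd
  rw [← hd, Nat.mul_mod_right, Nat.mul_div_cancel_left n (by positivity)] at hb
  rcases hb with hb | hb
  · exact hb rfl
  · omega

theorem final (T : OrderTable.{u}) {L : Type u} [Group L] (hK : IsKnownSimple' L) (h : Hn6 L) : Spor.IsoHN L := by
  have key : ∀ g ∈ surv, Real g L → Spor.IsoHN L := by
    intro g hg hr
    simp only [surv, List.mem_cons, List.not_mem_nil, or_false] at hg
    rcases hg with rfl | rfl | rfl | rfl | rfl | rfl | rfl | rfl | rfl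
    · obtain ⟨F, _, _, hF, ⟨e⟩⟩ := hr
      exact (kill (h.congr e) (H343.ord_psl hF (by norm_num)) (by decide) (by decide)).elim
    · obtain ⟨F, _, _, hF, ⟨e⟩⟩ := hr
      exact (kill (h.congr e) (H343.ord_psl hF (by norm_num)) (by decide) (by decide)).elim
    · obtain ⟨F, _, _, hF, ⟨e⟩⟩ := hr
      exact (kill (h.congr e) (H343.ord_psl hF (by norm_num)) (by decide) (by decide)).elim
    · obtain ⟨F, _, _, hF, ⟨e⟩⟩ := hr
      exact (kill (h.congr e) (H343.ord_psu hF (by norm_num)) (by decide) (by decide)).elim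
    · obtain ⟨F, _, _, hF, ⟨e⟩⟩ := hr
      exact (kill (h.congr e) (H343.ord_psu hF (by norm_num)) (by decide) (by decide)).elim
    · obtain ⟨F, _, _, hF, ⟨e⟩⟩ := hr
      have h1 := T.g2 F
      rw [hF] at h1
      exact (kill (h.congr e) ((one_mul _).trans h1) (by decide) (by decide)).elim
    · have h1 := T.spor L (.mcl, 898128000) (by decide) hr
      exact (kill h ((one_mul _).trans h1) (by decide) (by decide)).elim
    · obtain ⟨e⟩ := hr
      exact (coTwo (h.congr e)).elim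
    · exact hr
  rcases kind6' T hK h.hyp with ⟨q, hq, F, _, _, hF, ⟨e⟩⟩ | ⟨q, hq, F, _, _, hF, ⟨e⟩⟩ |
    ⟨q, hq, ⟨F, _, _, hF, ⟨e⟩⟩ | ⟨F, _, _, hF, ⟨e⟩⟩⟩ | ⟨q, hqp, hq, ⟨F, _, _, hF, ⟨e⟩⟩ | ⟨F, _, _, hF, ⟨e⟩⟩⟩ | ⟨g, hg, hr⟩
  · exact (psl6 hF hq (h.congr e)).elim
  · exact (psu6 hF hq (h.congr e)).elim
  · exact (f4 (by rw [hF]; exact hq) (h.congr e)).elim
  · exact (e6 (by rw [hF]; exact hq) (h.congr e)).elim
  · exact (te6 hqp hF hq (h.congr e)).elim
  · exact (td4 T hqp hF hq (h.congr e)).elim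
  · exact key g hg hr

end Cfsg.Agent.H815.HnFin
end

private theorem dce_b28e98a20448 : _root_.True := by
  try have : _root_.True := by simp only [_root_.Cfsg.Agent.H815.Six3.surv.eq_1]
  exact _root_.True.intro
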