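import Cfsg.Agent.S1233
import Cfsg.Agent.GH.LowRankQ8
import Cfsg.Prelude.Def_Classical
import Cfsg.Agent.LieClassical.GUOrder
import Cfsg.Agent.LieClassical.SUBasic
import Cfsg.Agent.LieClassical.HermBasic
import Cfsg.Agent.GH.LowRankLie
import Cfsg.Agent.Lib.MatLitD
import Cfsg.Agent.H285.D4Sylow
import Cfsg.Agent.S1059
import Cfsg.Agent.RankThreeFus.RankEnd
import Cfsg.Agent.ChevalleyStructure.ReeCount
import Cfsg.Agent.FastGrp
import Cfsg.Agent.Prune
set_option linter.all false

section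
prune_inst 0x7ff3fdffbffdffffffff7e7fffdfdffdfbfa7fffbfdff9cbffe8ebef3fbf7b8269e56ba90feb91ff0ec3e29410fc7bd3ffffdeffea6bfc7ffffd5ff45ffbffcffdf7bd0851de88b40fbc0fff83f0778e7f3fffffffffffffffffffffffffffbeffffffffffff

-- part: H815/RankL4Inst
section
prune_inst 0xc00000000000000000000000000000001000000000000000000000000000004000000800000004000000000020000000000000000000000000000000000000000000000000400000000000000000000000000000000000000000000000000000000000000
set_option linter.all false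
open scoped Cfsg.Agent.FastGrp

-- part: H815/RankL4
section
/-!
# Sectional 2-rank of `L₄(q)` and `U₄(q)`  (helper815)

* `rank_of_quat` : two commuting quaternion groups with the same centre whose product contains the 2-elements
  of its centralizer;
* `rank_four` : linear groups of degree 4 containing `Q8 × Q8` block-diagonally.
-/

set_option autoImplicit false

namespace Cfsg.Agent.H815.RankL4

open Matrix Cfsg Cfsg.Agent Subgroup Cfsg.Agent.GH.LowRankQ8

/-- **S1233 for a finite group.** -/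
theorem rank_of_quat {X : Type*} [Group X] [Finite X] (f g : Q8 →* X) (hf : Function.Injective f)
    (hg : Function.Injective g) (hc : ∀ u v, Commute (f u) (g v)) (hz : f zz = g zz)
    (hC : ∀ s : X, (∀ u, s * f u = f u * s) → (∀ v, s * g v = g v * s) → (∃ k : ℕ, s ^ 2 ^ k = 1) →
      ∃ u v, s = f u * g v) : SectionalPRankLE 2 4 X := by
  have : Fact (Nat.Prime 2) := ⟨Nat.prime_two⟩
  have hi : ∀ u v, f u = g v → u = 1 ∨ u = zz := by
    intro u v huv
    have h1 : ∀ w, u * w = w * u := by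
      intro w
      apply hf
      rw [map_mul, map_mul, huv]
      exact (hc w v).symm.eq
    have h2 : ∀ u : Q8, (∀ w, u * w = w * u) → u = 1 ∨ u = zz := by decide +kernel
    exact h2 u h1
  -- a Sylow 2-subgroup containing the product
  have hp : IsPGroup 2 (Q8 × Q8) := IsPGroup.of_card (n := 6) (by
    rw [Nat.card_prod, Nat.card_eq_fintype_card]; rfl)
  obtain ⟨S, hS⟩ := (hp.of_surjective (MonoidHom.noncommCoprod f g hc).rangeRestrict
    (MonoidHom.noncommCoprod f g hc).rangeRestrict_surjective).exists_le_sylow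
  have hfS : ∀ u, f u ∈ (S : Subgroup X) := fun u => hS ⟨(u, 1), by
    rw [MonoidHom.noncommCoprod_apply, map_one, mul_one]⟩
  have hgS : ∀ u, g u ∈ (S : Subgroup X) := fun u => hS ⟨(1, u), by
    rw [MonoidHom.noncommCoprod_apply, map_one, one_mul]⟩
  let f' : Q8 →* ↥(S : Subgroup X) := f.codRestrict _ hfS
  let g' : Q8 →* ↥(S : Subgroup X) := g.codRestrict _ hgS
  have hf' : Function.Injective f' := fun a b h => hf (congrArg Subtype.val h)
  have hg' : Function.Injective g' := fun a b h => hg (congrArg Subtype.val h)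
  have hc' : ∀ u v, Commute (f' u) (g' v) := fun u v => Subtype.ext (hc u v).eq
  rw [← GH.Rank.sylow_iff S]
  refine Cfsg.Agent.S1233.result S.isPGroup' (f'.range ⊔ g'.range) f'.range g'.range
    (MonoidHom.ofInjective hf').symm (MonoidHom.ofInjective hg').symm ?_ rfl ?_ ?_
  · rintro _ ⟨u, rfl⟩ _ ⟨v, rfl⟩
    exact (hc' u v).eq
  · rw [← MonoidHom.noncommCoprod_range (comm := hc')]
    have h1 := (MonoidHom.noncommCoprod f' g' hc').ker.card_mul_index
    rw [index_ker] at h1
    have h3 : Nat.card ↥(MonoidHom.noncommCoprod f' g' hc').ker = 2 := by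
      have h4 : ((MonoidHom.noncommCoprod f' g' hc').ker : Set (Q8 × Q8)) = {(1, 1), (zz, zz)} := by
        ext ⟨u, v⟩
        rw [SetLike.mem_coe, MonoidHom.mem_ker, MonoidHom.noncommCoprod_apply, Set.mem_insert_iff,
          Set.mem_singleton_iff]
        constructor
        · intro h
          have h5 : f u * g v = 1 := congrArg Subtype.val h
          have h6 : f u = g v⁻¹ := by rw [map_inv]; exact eq_inv_of_mul_eq_one_left h5
          rcases hi u _ h6 with h7 | h7
          · left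
            rw [h7, map_one, one_mul] at h5
            rw [h7, hg (h5.trans (map_one g).symm)]
          · right
            rw [h7, hz, ← map_mul] at h5
            have h8 := hg (h5.trans (map_one g).symm)
            have h9 : v = zz := by
              have : ∀ v : Q8, zz * v = 1 → v = zz := by decide
              exact this v h8
            rw [h7, h9]
        · rintro (h | h)
          · rw [Prod.ext_iff] at h
            rw [h.1, h.2]
            exact (mul_eq_one_iff_eq_inv.2 (by rw [map_one, map_one, inv_one]))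
          · rw [Prod.ext_iff] at h
            rw [h.1, h.2]
            apply Subtype.ext
            change f zz * g zz = 1
            rw [← hz, ← map_mul, show (zz * zz : Q8) = 1 by decide, map_one]
      have h5 : Nat.card ↥(MonoidHom.noncommCoprod f' g' hc').ker =
          ({(1, 1), (zz, zz)} : Set (Q8 × Q8)).ncard := by
        rw [← h4]
        rfl
      rw [h5, Set.ncard_pair (by decide)]
    rw [h3, Nat.card_prod, Nat.card_eq_fintype_card (α := Q8), show Fintype.card Q8 = 8 from rfl] at h1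
    omega
  · intro s hs
    rw [mem_centralizer_iff] at hs
    obtain ⟨k, hk⟩ := S.isPGroup' s
    obtain ⟨u, v, huv⟩ := hC s.1
      (fun u => (congrArg Subtype.val (hs (f' u) (mem_sup_left ⟨u, rfl⟩))).symm)
      (fun u => (congrArg Subtype.val (hs (g' u) (mem_sup_right ⟨u, rfl⟩))).symm)
      ⟨k, congrArg Subtype.val hk⟩
    have h1 : s = f' u * g' v := Subtype.ext huv
    rw [h1]
    exact mul_mem (mem_sup_left ⟨u, rfl⟩) (mem_sup_right ⟨v, rfl⟩)

/-! ### The matrices -/

section Mat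

variable {F : Type*} [Field F]

/-- first block -/
def xm (p r : F) : Matrix (Fin 4) (Fin 4) F := !![p, r, 0, 0; r, -p, 0, 0; 0, 0, 1, 0; 0, 0, 0, 1]
/-- first block, the standard element of order 4 -/
def jm (F : Type*) [Field F] : Matrix (Fin 4) (Fin 4) F := !![0, 1, 0, 0; -1, 0, 0, 0; 0, 0, 1, 0; 0, 0, 0, 1]
/-- second block -/
def xm' (p r : F) : Matrix (Fin 4) (Fin 4) F := !![1, 0, 0, 0; 0, 1, 0, 0; 0, 0, p, r; 0, 0, r, -p]
/-- second block, the standard element of order 4 -/
def jm' (F : Type*) [Field F] : Matrix (Fin 4) (Fin 4) F := !![1, 0, 0, 0; 0, 1, 0, 0; 0, 0, 0, 1; 0, 0, -1, 0]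

theorem jm_sq : jm F * jm F = diagonal ![-1, -1, 1, 1] := by
  ext i j
  (revert i j; simp only [jm, Nat.reduceAdd, _root_.mul_neg, _root_.ne_eq, _root_.zero_ne_one, _root_.not_false_eq_true, _root_.neg_eq_zero, Cfsg.Agent.Lib.MatLit.r4])

theorem jm'_sq : jm' F * jm' F = diagonal ![1, 1, -1, -1] := by
  ext i j
  (revert i j; simp only [jm', mul_apply, Fin.sum_univ_four, _root_.Fin.forall_fin_succ, _root_.Matrix.of_apply, _root_.Matrix.cons_val', _root_.Matrix.cons_val_fin_one, Fin.isValue, _root_.Matrix.cons_val_zero, _root_.Matrix.cons_val_one, _root_.Matrix.cons_val, _root_.Nat.succ_eq_add_one, Nat.reduceAdd, _root_.mul_one, _root_.MulZeroClass.mul_zero, _root_.add_zero, _root_.Matrix.cons_val_succ, _root_.zero_add, _root_.Fin.succ_zero_eq_one, _root_.mul_neg, _root_.Fin.succ_one_eq_two, Fin.reduceSucc, _root_.IsEmpty.forall_iff, _root_.and_true, _root_.Matrix.diagonal_apply_eq, _root_.ne_eq, _root_.zero_ne_one, _root_.not_false_eq_true, _root_.Matrix.diagonal_apply_ne,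 _root_.neg_zero, Fin.reduceEq, _root_.and_self, _root_.Fin.succ_ne_zero, _root_.true_and])

theorem xm_sq {p r : F} (h : p ^ 2 + r ^ 2 = -1) : xm p r * xm p r = diagonal ![-1, -1, 1, 1] := by
  have h1 : p * p + r * r = -1 := by rw [← h]; ring
  have h2 : r * r + p * p = -1 := by rw [← h]; ring
  ext i j
  (revert i j; simp only [xm, mul_apply, Fin.sum_univ_four, h1, h2, _root_.Fin.forall_fin_succ, _root_.Matrix.of_apply, _root_.Matrix.cons_val', _root_.Matrix.cons_val_fin_one, Fin.isValue, _root_.Matrix.cons_val_zero, _root_.Matrix.cons_val_one, _root_.Matrix.cons_val, _root_.Nat.succ_eq_add_one, Nat.reduceAdd, _root_.MulZeroClass.mul_zero, _root_.add_zero, _root_.Matrix.cons_val_succ, _root_.mul_neg, _root_.Fin.succ_zero_eq_one, _root_.mul_one, _root_.zero_add, _root_.Fin.succ_one_eq_two, Fin.reduceSucc, _root_.IsEmpty.forall_iff, _root_.and_true, _root_.Matrix.diagonal_apply_eq, _root_.ne_eq, _root_.zero_ne_one, _root_.not_false_eq_true, _root_.Matrix.diagonal_apply_ne,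 Fin.reduceEq, _root_.and_self, _root_.true_and, _root_.Fin.succ_ne_zero, _root_.neg_mul, _root_.neg_neg, _root_.MulZeroClass.zero_mul, _root_.neg_zero]) <;> (repeat' with_reducible apply And.intro) <;> ring

theorem xm'_sq {p r : F} (h : p ^ 2 + r ^ 2 = -1) : xm' p r * xm' p r = diagonal ![1, 1, -1, -1] := by
  have h1 : p * p + r * r = -1 := by rw [← h]; ring
  have h2 : r * r + p * p = -1 := by rw [← h]; ring
  ext i j
  (revert i j; simp only [xm', mul_apply, Fin.sum_univ_four, h1, h2, _root_.Fin.forall_fin_succ, _root_.Matrix.of_apply, _root_.Matrix.cons_val', _root_.Matrix.cons_val_fin_one, Fin.isValue, _root_.Matrix.cons_val_zero, _root_.Matrix.cons_val_one, _root_.Matrix.cons_val, _root_.Nat.succ_eq_add_one, Nat.reduceAdd, _root_.mul_one, _root_.MulZeroClass.mul_zero, _root_.add_zero, _root_.Matrix.cons_val_succ, _root_.zero_add, _root_.Fin.succ_zero_eq_one, _root_.Fin.succ_one_eq_two, _root_.mul_neg, Fin.reduceSucc, _root_.IsEmpty.forall_iff, _root_.and_true, _root_.Matrix.diagonal_apply_eq,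 _root_.ne_eq, _root_.zero_ne_one, _root_.not_false_eq_true, _root_.Matrix.diagonal_apply_ne, _root_.MulZeroClass.zero_mul, Fin.reduceEq, _root_.neg_zero, _root_.and_self, _root_.Fin.succ_ne_zero, _root_.true_and, _root_.neg_mul, _root_.neg_neg]) <;> (repeat' with_reducible apply And.intro) <;> ring

theorem jm_xm (p r : F) : jm F * xm p r * jm F = xm p r := by
  ext i j
  (revert i j; simp only [jm, xm, mul_apply, Fin.sum_univ_four, _root_.Fin.forall_fin_succ, _root_.Matrix.cons_mul, _root_.Nat.succ_eq_add_one, Nat.reduceAdd, _root_.Matrix.vecMul_cons, _root_.Matrix.head_cons, _root_.zero_smul, _root_.Matrix.tail_cons, _root_.one_smul, _root_.Matrix.empty_vecMul, _root_.add_zero, _root_.zero_add, _root_.neg_smul, _root_.Matrix.neg_cons, _root_.neg_zero, _root_.Matrix.neg_empty, _root_.Matrix.empty_mul, _root_.Equiv.symm_apply_apply, _root_.Matrix.of_apply, _root_.Matrix.cons_val', _root_.Matrix.cons_val_fin_one, Fin.isValue, _root_.Matrix.cons_val_zero, _root_.Matrix.cons_val_one,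 _root_.Matrix.cons_val, _root_.MulZeroClass.mul_zero, _root_.mul_neg, _root_.mul_one, _root_.Matrix.cons_val_succ, _root_.implies_true, _root_.and_self, _root_.and_true, _root_.neg_neg])

theorem jm'_xm' (p r : F) : jm' F * xm' p r * jm' F = xm' p r := by
  ext i j
  (revert i j; simp only [jm', xm', mul_apply, Fin.sum_univ_four, _root_.Fin.forall_fin_succ, _root_.Matrix.cons_mul, _root_.Nat.succ_eq_add_one, Nat.reduceAdd, _root_.Matrix.vecMul_cons, _root_.Matrix.head_cons, _root_.one_smul, _root_.Matrix.tail_cons, _root_.zero_smul, _root_.Matrix.empty_vecMul, _root_.add_zero, _root_.zero_add, _root_.neg_smul, _root_.Matrix.neg_cons, _root_.neg_zero, _root_.Matrix.neg_empty, _root_.Matrix.empty_mul, _root_.Equiv.symm_apply_apply, _root_.Matrix.of_apply, _root_.Matrix.cons_val', _root_.Matrix.cons_val_fin_one, Fin.isValue, _root_.Matrix.cons_val_zero, _root_.Matrix.cons_val_one, _root_.Matrix.cons_val, _root_.mul_one, _root_.MulZeroClass.mul_zero, _root_.Matrix.cons_val_succ,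 _root_.mul_neg, _root_.implies_true, _root_.and_true, _root_.true_and, _root_.neg_neg, _root_.and_self])

theorem comm_jj : jm F * jm' F = jm' F * jm F := by
  ext i j
  (revert i j; simp only [jm', jm, mul_apply, Fin.sum_univ_four, _root_.Fin.forall_fin_succ, _root_.Matrix.of_apply, _root_.Matrix.cons_val', _root_.Matrix.cons_val_fin_one, Fin.isValue, _root_.Matrix.cons_val_zero, _root_.Matrix.cons_val_one, _root_.Matrix.cons_val, _root_.mul_one, _root_.MulZeroClass.mul_zero, _root_.add_zero, _root_.mul_neg, _root_.zero_add, _root_.Matrix.cons_val_succ, _root_.implies_true, _root_.and_true, _root_.true_and, _root_.neg_zero, _root_.and_self])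

theorem comm_jx (p r : F) : jm F * xm' p r = xm' p r * jm F := by
  ext i j
  (revert i j; simp only [xm', jm, mul_apply, Fin.sum_univ_four, _root_.Fin.forall_fin_succ, _root_.Matrix.of_apply, _root_.Matrix.cons_val', _root_.Matrix.cons_val_fin_one, Fin.isValue, _root_.Matrix.cons_val_zero, _root_.Matrix.cons_val_one, _root_.Matrix.cons_val, _root_.mul_one, _root_.MulZeroClass.mul_zero, _root_.add_zero, _root_.mul_neg, _root_.zero_add, _root_.Matrix.cons_val_succ, _root_.forall_const, _root_.true_and, _root_.neg_zero, _root_.MulZeroClass.zero_mul, _root_.and_self, _root_.one_mul, _root_.implies_true])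

theorem comm_xj (p r : F) : xm p r * jm' F = jm' F * xm p r := by
  ext i j
  (revert i j; simp only [jm', xm, mul_apply, Fin.sum_univ_four, _root_.Fin.forall_fin_succ, _root_.Matrix.of_apply, _root_.Matrix.cons_val', _root_.Matrix.cons_val_fin_one, Fin.isValue, _root_.Matrix.cons_val_zero, _root_.Matrix.cons_val_one, _root_.Matrix.cons_val, _root_.mul_one, _root_.MulZeroClass.mul_zero, _root_.add_zero, _root_.Matrix.cons_val_succ, _root_.zero_add, _root_.mul_neg, _root_.implies_true, _root_.and_true, _root_.one_mul, _root_.MulZeroClass.zero_mul, _root_.neg_zero, _root_.and_self])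

theorem comm_xx (p r : F) : xm p r * xm' p r = xm' p r * xm p r := by
  ext i j
  (revert i j; simp only [xm', xm, mul_apply, Fin.sum_univ_four, _root_.Fin.forall_fin_succ, _root_.Matrix.of_apply, _root_.Matrix.cons_val', _root_.Matrix.cons_val_fin_one, Fin.isValue, _root_.Matrix.cons_val_zero, _root_.Matrix.cons_val_one, _root_.Matrix.cons_val, _root_.mul_one, _root_.MulZeroClass.mul_zero, _root_.add_zero, _root_.Matrix.cons_val_succ, _root_.zero_add, _root_.mul_neg, _root_.forall_const, _root_.one_mul, _root_.MulZeroClass.zero_mul, _root_.neg_zero, _root_.and_self, _root_.implies_true])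

theorem trace_jm : (jm F).trace = 2 := by
  simp only [jm, trace, Fin.sum_univ_four, _root_.Matrix.diag_apply, _root_.Matrix.of_apply, _root_.Matrix.cons_val', _root_.Matrix.cons_val_fin_one, _root_.Fin.isValue, _root_.Matrix.cons_val_zero, _root_.Matrix.cons_val_one, _root_.add_zero, _root_.Matrix.cons_val, _root_.zero_add]; norm_num

theorem trace_jm' : (jm' F).trace = 2 := by
  simp only [jm', trace, Fin.sum_univ_four, _root_.Matrix.diag_apply, _root_.Matrix.of_apply, _root_.Matrix.cons_val', _root_.Matrix.cons_val_fin_one, _root_.Fin.isValue, _root_.Matrix.cons_val_zero, _root_.Matrix.cons_val_one, _root_.Matrix.cons_val, _root_.add_zero]; norm_num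

theorem trace_xm (p r : F) : (xm p r).trace = 2 := by
  simp only [xm, trace, Fin.sum_univ_four, _root_.Matrix.diag_apply, _root_.Matrix.of_apply, _root_.Matrix.cons_val', _root_.Matrix.cons_val_fin_one, _root_.Fin.isValue, _root_.Matrix.cons_val_zero, _root_.Matrix.cons_val_one, _root_.add_neg_cancel, _root_.Matrix.cons_val, _root_.zero_add]; norm_num

theorem trace_xm' (p r : F) : (xm' p r).trace = 2 := by
  simp only [xm', trace, Fin.sum_univ_four, _root_.Matrix.diag_apply, _root_.Matrix.of_apply, _root_.Matrix.cons_val', _root_.Matrix.cons_val_fin_one, _root_.Fin.isValue, _root_.Matrix.cons_val_zero, _root_.Matrix.cons_val_one, _root_.Matrix.cons_val, _root_.add_neg_cancel_right]; ring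

/-- a matrix commuting with the four generators -/
theorem diag_of_comm (h2 : (2 : F) ≠ 0) {p r : F} (h : p ^ 2 + r ^ 2 = -1) {t : Matrix (Fin 4) (Fin 4) F}
    (h1 : t * jm F = jm F * t) (h3 : t * xm p r = xm p r * t) (h4 : t * jm' F = jm' F * t)
    (h5 : t * xm' p r = xm' p r * t) : t = diagonal ![t 0 0, t 0 0, t 2 2, t 2 2] := by
  have key : ∀ x : F, 2 * x = 0 → x = 0 := fun x hx => (mul_eq_zero.1 hx).resolve_left h2
  have e1 := fun i j => congrFun (congrFun h1 i) j
  have e3 := fun i j => congrFun (congrFun h3 i) j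
  have e4 := fun i j => congrFun (congrFun h4 i) j
  have e5 := fun i j => congrFun (congrFun h5 i) j
  have a02 := e1 0 2
  have a12 := e1 1 2
  have a03 := e1 0 3
  have a13 := e1 1 3
  have a20 := e1 2 0
  have a21 := e1 2 1
  have a30 := e1 3 0
  have a31 := e1 3 1
  have a00 := e1 0 0
  have a01 := e1 0 1
  have b00 := e3 0 0
  have b01 := e3 0 1
  have c22 := e4 2 2
  have c23 := e4 2 3
  have d22 := e5 2 2
  have d23 := e5 2 3
  simp only [mul_apply, Fin.sum_univ_four, jm, _root_.Fin.isValue, _root_.Matrix.of_apply, _root_.Matrix.cons_val', _root_.Matrix.cons_val, _root_.Matrix.cons_val_fin_one, _root_.Matrix.cons_val_zero, _root_.MulZeroClass.mul_zero, _root_.Matrix.cons_val_one, _root_.add_zero, _root_.mul_one, _root_.zero_add, _root_.MulZeroClass.zero_mul, _root_.one_mul, _root_.neg_mul, _root_.mul_neg] at a02 a12 a03 a13 a20 a21 a30 a31 a00 a01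
  simp only [mul_apply, Fin.sum_univ_four, xm, _root_.Fin.isValue, _root_.Matrix.of_apply, _root_.Matrix.cons_val', _root_.Matrix.cons_val_zero, _root_.Matrix.cons_val_fin_one, _root_.Matrix.cons_val_one, _root_.Matrix.cons_val, _root_.MulZeroClass.mul_zero, _root_.add_zero, _root_.MulZeroClass.zero_mul, _root_.mul_neg] at b00 b01
  simp [mul_apply, Fin.sum_univ_four, jm'] at c22 c23
  simp only [mul_apply, Fin.sum_univ_four, xm', _root_.Fin.isValue, _root_.Matrix.of_apply, _root_.Matrix.cons_val', _root_.Matrix.cons_val, _root_.Matrix.cons_val_fin_one, _root_.Matrix.cons_val_zero, _root_.MulZeroClass.mul_zero, _root_.Matrix.cons_val_one, _root_.add_zero, _root_.zero_add, _root_.MulZeroClass.zero_mul, _root_.mul_neg] at d22 d23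
  have t02 : t 0 2 = 0 := key _ (by linear_combination a02 + a12)
  have t12 : t 1 2 = 0 := by rw [← a02, t02]
  have t03 : t 0 3 = 0 := key _ (by linear_combination a03 + a13)
  have t13 : t 1 3 = 0 := by rw [← a03, t03]
  have t21 : t 2 1 = 0 := key _ (by linear_combination -a20 - a21)
  have t20 : t 2 0 = 0 := by rw [a21, t21]
  have t31 : t 3 1 = 0 := key _ (by linear_combination -a30 - a31)
  have t30 : t 3 0 = 0 := by rw [a31, t31]
  have t01 : t 0 1 = 0 := by
    have h6 : r * t 0 1 = 0 := key _ (by linear_combination b00 - r * a00)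
    have h7 : p * t 0 1 = 0 := key _ (by linear_combination r * a01 - b01)
    linear_combination -p * h7 - r * h6 + t 0 1 * h
  have t10 : t 1 0 = 0 := by rw [← a00, t01, neg_zero]
  have t23 : t 2 3 = 0 := by
    have h6 : r * t 2 3 = 0 := key _ (by linear_combination d22 - r * c22)
    have h7 : p * t 2 3 = 0 := key _ (by linear_combination r * c23 - d23)
    linear_combination -p * h7 - r * h6 + t 2 3 * h
  have t32 : t 3 2 = 0 := by rw [← c22, t23, neg_zero]
  ext i j
  (revert i j; simp only [t02, t12, t03, t13, t21, t20, t31, t30, t01, t10, t23, t32, a01, c23, _root_.Fin.forall_fin_succ, _root_.Nat.succ_eq_add_one, Nat.reduceAdd, Fin.isValue, _root_.Fin.succ_zero_eq_one, _root_.Fin.succ_one_eq_two, Fin.reduceSucc, _root_.IsEmpty.forall_iff, _root_.and_true, _root_.Matrix.diagonal_apply_eq, _root_.Matrix.cons_val_zero, _root_.ne_eq, _root_.zero_ne_one, _root_.not_false_eq_true, _root_.Matrix.diagonal_apply_ne, Fin.reduceEq, _root_.and_self, _root_.Fin.succ_ne_zero,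 _root_.Matrix.cons_val_one, _root_.Matrix.cons_val])

/-! ### The criterion -/

section Crit

variable {G : Type*} [Group G] (ι : G →* _root_.Matrix.SpecialLinearGroup (Fin 4) F)

/-- conjugation up to a scalar and the trace -/
theorem comm_of_scalar (h2 : (2 : F) ≠ 0) {t x : G} {c : F}
    (h : (ι (t * x * t⁻¹ * x⁻¹)).1 = diagonal (fun _ => c)) (hx : (ι x).1.trace = 2) :
    (ι t).1 * (ι x).1 = (ι x).1 * (ι t).1 := by
  have h1 : (ι (t * x * t⁻¹)).1 = c • (ι x).1 := by
    have h3 : t * x * t⁻¹ = (t * x * t⁻¹ * x⁻¹) * x := by group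
    rw [h3, map_mul]
    change (ι (t * x * t⁻¹ * x⁻¹)).1 * (ι x).1 = _
    rw [h]
    ext i j
    rw [diagonal_mul, Matrix.smul_apply, smul_eq_mul]
  have h4 : (ι (t * x * t⁻¹)).1.trace = (ι x).1.trace := by
    rw [map_mul, map_mul]
    change ((ι t).1 * (ι x).1 * (ι t⁻¹).1).trace = _
    rw [trace_mul_comm, ← mul_assoc]
    have h5 : (ι t⁻¹).1 * (ι t).1 = 1 := by
      have : ι t⁻¹ * ι t = 1 := by rw [← map_mul, inv_mul_cancel, map_one]
      exact congrArg Subtype.val this
    rw [h5, one_mul]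
  rw [h1, trace_smul, hx, smul_eq_mul] at h4
  have hc : c = 1 := by
    have h5 : (c - 1) * 2 = 0 := by linear_combination h4
    exact sub_eq_zero.1 ((mul_eq_zero.1 h5).resolve_right h2)
  rw [hc, one_smul] at h1
  have h6 : t * x = (t * x * t⁻¹) * t := by group
  have h7 : ι t * ι x = ι (t * x * t⁻¹) * ι t := by rw [← map_mul, ← map_mul, ← h6]
  have h8 : (ι t).1 * (ι x).1 = (ι (t * x * t⁻¹)).1 * (ι t).1 := congrArg Subtype.val h7
  rw [h8, h1]

omit ι in
theorem pow_four' (x : G) : x ^ 4 = (x * x) * (x * x) := by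
  rw [← pow_two, ← pow_two, ← pow_mul]

omit ι [Group G] in
theorem pow_four_of {r : F} {N k : ℕ} (hN : ¬ 8 ∣ N) (h1 : r ^ 2 ^ k = 1) (h2 : r ^ N = 1) : r ^ 4 = 1 := by
  obtain ⟨j, -, hj⟩ := (Nat.dvd_prime_pow Nat.prime_two).1 (orderOf_dvd_of_pow_eq_one h1)
  have h3 := orderOf_dvd_of_pow_eq_one h2
  have h4 : j ≤ 2 := by
    by_contra hcon
    apply hN
    rw [hj] at h3
    exact (pow_dvd_pow 2 (show 3 ≤ j by omega)).trans h3
  rw [← orderOf_dvd_iff_pow_eq_one, hj]
  exact pow_dvd_pow 2 h4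

omit ι [Group G] in
theorem arith {a d : F} {N k : ℕ} (hN : ¬ 8 ∣ N) (ha : a ^ N = 1) (hd : d ^ N = 1) (had : a * a * d * d = 1)
    (hk : a ^ 2 ^ k = d ^ 2 ^ k) : a = d ∨ a = -d := by
  have hd0 : d ≠ 0 := by
    rintro rfl
    rw [mul_zero] at had
    exact zero_ne_one had
  have ha0 : a ≠ 0 := by
    rintro rfl
    rw [zero_mul, zero_mul, zero_mul] at had
    exact zero_ne_one had
  have h1 : (a / d) ^ 2 ^ k = 1 := by
    rw [div_pow, hk, div_self (pow_ne_zero _ hd0)]
  have h2 : (a / d) ^ N = 1 := by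
    rw [div_pow, ha, hd, div_one]
  have h3 := pow_four_of hN h1 h2
  -- `a / d = (ad) a²`
  have h4 : a / d = (a * d) * a ^ 2 := by
    rw [div_eq_iff hd0]
    linear_combination -a * had
  have h5 : a ^ 2 ^ 3 = 1 := by
    have h6 : ((a * d) * a ^ 2) ^ 4 = a ^ 2 ^ 3 * (a * a * d * d) ^ 2 := by ring
    rw [h4, h6, had, one_pow, mul_one] at h3
    exact h3
  have h7 := pow_four_of hN h5 ha
  have h8 : a ^ 2 = d ^ 2 := by
    have h9 : (a / d) ^ 2 = 1 := by
      rw [h4]
      have : ((a * d) * a ^ 2) ^ 2 = a ^ 4 * (a * a * d * d) := by ring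
      rw [this, h7, had, mul_one]
    rwa [div_pow, div_eq_one_iff_eq (pow_ne_zero _ hd0)] at h9
  exact sq_eq_sq_iff_eq_or_eq_neg.1 h8

/-- **Linear groups of degree 4 containing `Q8 × Q8`.** -/
theorem rank_four [Finite G] (hι : Function.Injective ι) (h2 : (2 : F) ≠ 0)
    (hcen : ∀ z ∈ center G, ∃ c : F, (ι z).1 = diagonal (fun _ => c)) {p r : F} (hpr : p ^ 2 + r ^ 2 = -1)
    {x₁ y₁ x₂ y₂ : G} (hx₁ : (ι x₁).1 = jm F) (hy₁ : (ι y₁).1 = xm p r) (hx₂ : (ι x₂).1 = jm' F)
    (hy₂ : (ι y₂).1 = xm' p r) {N : ℕ} (hN : ¬ 8 ∣ N)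
    (hG : ∀ (g : G) (a d : F), (ι g).1 = diagonal ![a, a, d, d] → a ^ N = 1 ∧ d ^ N = 1) :
    SectionalPRankLE 2 4 (G ⧸ center G) := by
  have hinj : ∀ {u v : G}, (ι u).1 = (ι v).1 → u = v := fun h => hι (Subtype.ext h)
  have hm : ∀ u v : G, (ι (u * v)).1 = (ι u).1 * (ι v).1 := fun u v => congrArg Subtype.val (map_mul ι u v)
  have h1 : (ι 1).1 = 1 := congrArg Subtype.val (map_one ι)
  have hsc : ∀ (z : G) (c : F), (ι z).1 = diagonal (fun _ => c) → z ∈ center G := by
    intro z c hz
    rw [mem_center_iff]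
    intro g
    apply hinj
    rw [hm, hm, hz]
    ext i j
    rw [mul_diagonal, diagonal_mul, mul_comm]
  have hone : ∀ u v : Fin 4 → F, (diagonal u * diagonal v : Matrix (Fin 4) (Fin 4) F) = diagonal (fun i => u i * v i) :=
    fun u v => diagonal_mul_diagonal u v
  -- the first quaternion group
  have q₁ : x₁ ^ 4 = 1 ∧ y₁ * y₁ = x₁ ^ 2 ∧ x₁ * y₁ = y₁ * x₁⁻¹ := by
    refine ⟨?_, ?_, ?_⟩
    · apply hinj
      rw [pow_four', hm, hm, hx₁, jm_sq, hone, h1, ← diagonal_one]
      congr 1
      ext i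
      (revert i; simp only [_root_.Fin.forall_fin_succ, _root_.Nat.succ_eq_add_one, Nat.reduceAdd, Fin.isValue, _root_.Matrix.cons_val_zero, _root_.mul_neg, _root_.mul_one, _root_.neg_neg, _root_.Matrix.cons_val_succ, _root_.Matrix.cons_val_fin_one, _root_.implies_true, _root_.and_self])
    · apply hinj
      rw [pow_two, hm, hm, hx₁, hy₁, jm_sq, xm_sq hpr]
    · rw [eq_mul_inv_iff_mul_eq]
      apply hinj
      rw [hm, hm, hx₁, hy₁, jm_xm]
  have q₂ : x₂ ^ 4 = 1 ∧ y₂ * y₂ = x₂ ^ 2 ∧ x₂ * y₂ = y₂ * x₂⁻¹ := by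
    refine ⟨?_, ?_, ?_⟩
    · apply hinj
      rw [pow_four', hm, hm, hx₂, jm'_sq, hone, h1, ← diagonal_one]
      congr 1
      ext i
      (revert i; simp only [_root_.Fin.forall_fin_succ, _root_.Nat.succ_eq_add_one, Nat.reduceAdd, Fin.isValue, _root_.Matrix.cons_val_zero, _root_.mul_one, _root_.Matrix.cons_val_succ, _root_.mul_neg, _root_.neg_neg, _root_.Matrix.cons_val_fin_one, _root_.implies_true, _root_.and_self])
    · apply hinj
      rw [pow_two, hm, hm, hx₂, hy₂, jm'_sq, xm'_sq hpr]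
    · rw [eq_mul_inv_iff_mul_eq]
      apply hinj
      rw [hm, hm, hx₂, hy₂, jm'_xm']
  let f₀ : Q8 →* G := qhom x₁ y₁ q₁.1 q₁.2.1 q₁.2.2
  let g₀ : Q8 →* G := qhom x₂ y₂ q₂.1 q₂.2.1 q₂.2.2
  have hf₀ : f₀ zz = x₁ * x₁ := by
    change x₁ ^ (2 : ZMod (2 * 2)).val = _
    rw [show (2 : ZMod (2 * 2)).val = 2 from rfl, pow_two]
  have hg₀ : g₀ zz = x₂ * x₂ := by
    change x₂ ^ (2 : ZMod (2 * 2)).val = _
    rw [show (2 : ZMod (2 * 2)).val = 2 from rfl, pow_two]
  have hne : (1 : F) ≠ -1 := by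
    intro h; apply h2; linear_combination h
  let π : G →* G ⧸ center G := QuotientGroup.mk' _
  have hπ : ∀ {g : G}, π g = 1 ↔ g ∈ center G := fun {g} => QuotientGroup.eq_one_iff g
  have hf : Function.Injective (π.comp f₀) := by
    apply injective_of
    rw [MonoidHom.comp_apply, hf₀, Ne, hπ]
    intro h
    obtain ⟨c, hc⟩ := hcen _ h
    rw [hm, hx₁, jm_sq] at hc
    have h3 := congrFun (diagonal_injective hc) 0
    have h4 := congrFun (diagonal_injective hc) 2
    exact hne (h4.trans h3.symm)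
  have hg : Function.Injective (π.comp g₀) := by
    apply injective_of
    rw [MonoidHom.comp_apply, hg₀, Ne, hπ]
    intro h
    obtain ⟨c, hc⟩ := hcen _ h
    rw [hm, hx₂, jm'_sq] at hc
    have h3 := congrFun (diagonal_injective hc) 0
    have h4 := congrFun (diagonal_injective hc) 2
    exact hne (h3.trans h4.symm)
  have hc : ∀ u v, Commute (f₀ u) (g₀ v) := by
    refine qhom_commute ?_ ?_ ?_ ?_
    · apply hinj; rw [hm, hm, hx₁, hx₂, comm_jj]
    · apply hinj; rw [hm, hm, hx₁, hy₂, comm_jx]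
    · apply hinj; rw [hm, hm, hy₁, hx₂, comm_xj]
    · apply hinj; rw [hm, hm, hy₁, hy₂, comm_xx]
  refine rank_of_quat (π.comp f₀) (π.comp g₀) hf hg (fun u v => (hc u v).map π) ?_ ?_
  · rw [MonoidHom.comp_apply, MonoidHom.comp_apply, hf₀, hg₀]
    rw [← div_eq_one, ← map_div, hπ]
    refine hsc _ (-1) ?_
    have h3 : x₁ * x₁ / (x₂ * x₂) = x₁ * x₁ * (x₂ * x₂) := by
      rw [div_eq_mul_inv]
      congr 1
      rw [inv_eq_iff_mul_eq_one, ← pow_four']
      exact q₂.1
    rw [h3, hm, hm, hm, hx₁, hx₂, jm_sq, jm'_sq, hone]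
    congr 1
    ext i
    (revert i; simp only [_root_.Fin.forall_fin_succ, _root_.Nat.succ_eq_add_one, Nat.reduceAdd, Fin.isValue, _root_.Matrix.cons_val_zero, _root_.mul_one, _root_.Matrix.cons_val_succ, _root_.mul_neg, _root_.Matrix.cons_val_fin_one, _root_.implies_true, _root_.and_self])
  · intro s hs1 hs2 hk
    obtain ⟨t, rfl⟩ := QuotientGroup.mk'_surjective _ s
    change (∀ u, π t * π (f₀ u) = π (f₀ u) * π t) at hs1
    change (∀ u, π t * π (g₀ u) = π (g₀ u) * π t) at hs2
    have hcm : ∀ x : G, π t * π x = π x * π t → (ι x).1.trace = 2 → (ι t).1 * (ι x).1 = (ι x).1 * (ι t).1 := by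
      intro x hx htr
      have h3 : π (t * x * t⁻¹ * x⁻¹) = 1 := by
        rw [map_mul, map_mul, map_mul, map_inv, map_inv, hx, mul_inv_cancel_right, mul_inv_cancel]
      obtain ⟨c, hc⟩ := hcen _ (hπ.1 h3)
      exact comm_of_scalar ι h2 hc htr
    have ex₁ : f₀ (.a 1) = x₁ := by
      change x₁ ^ (1 : ZMod (2 * 2)).val = _
      rw [show (1 : ZMod (2 * 2)).val = 1 from rfl, pow_one]
    have ey₁ : f₀ (.xa 0) = y₁ := by
      change y₁ * x₁ ^ (0 : ZMod (2 * 2)).val = _
      rw [ZMod.val_zero, pow_zero, mul_one]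
    have ex₂ : g₀ (.a 1) = x₂ := by
      change x₂ ^ (1 : ZMod (2 * 2)).val = _
      rw [show (1 : ZMod (2 * 2)).val = 1 from rfl, pow_one]
    have ey₂ : g₀ (.xa 0) = y₂ := by
      change y₂ * x₂ ^ (0 : ZMod (2 * 2)).val = _
      rw [ZMod.val_zero, pow_zero, mul_one]
    have c1 := hcm x₁ (by rw [← ex₁]; exact hs1 _) (by rw [hx₁, trace_jm])
    have c2 := hcm y₁ (by rw [← ey₁]; exact hs1 _) (by rw [hy₁, trace_xm])
    have c3 := hcm x₂ (by rw [← ex₂]; exact hs2 _) (by rw [hx₂, trace_jm'])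
    have c4 := hcm y₂ (by rw [← ey₂]; exact hs2 _) (by rw [hy₂, trace_xm'])
    rw [hx₁] at c1
    rw [hy₁] at c2
    rw [hx₂] at c3
    rw [hy₂] at c4
    have hd := diag_of_comm h2 hpr c1 c2 c3 c4
    set a := (ι t).1 0 0 with ha
    set d := (ι t).1 2 2 with hd'
    obtain ⟨hN1, hN2⟩ := hG t a d hd
    have hdet : a * a * d * d = 1 := by
      have h3 : (ι t).1.det = 1 := (ι t).2
      rw [hd, det_diagonal, Fin.prod_univ_four] at h3
      exact h3
    obtain ⟨k, hk⟩ := hk
    have hk' : π (t ^ 2 ^ k) = 1 := by rw [map_pow]; exact hk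
    obtain ⟨c, hc'⟩ := hcen _ (hπ.1 hk')
    have hpow : (ι (t ^ 2 ^ k)).1 = (ι t).1 ^ 2 ^ k := by
      rw [map_pow]; rfl
    rw [hpow, hd, diagonal_pow] at hc'
    have h5 : a ^ 2 ^ k = d ^ 2 ^ k :=
      (congrFun (diagonal_injective hc') 0).trans (congrFun (diagonal_injective hc') 2).symm
    rcases arith hN hN1 hN2 hdet h5 with h6 | h6
    · refine ⟨1, 1, ?_⟩
      rw [map_one, map_one, one_mul]
      refine hπ.2 (hsc t a ?_)
      rw [hd, ← h6]
      congr 1
      ext i
      fin_cases i <;> rfl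
    · refine ⟨zz, 1, ?_⟩
      rw [map_one, mul_one, MonoidHom.comp_apply, hf₀]
      change π t = π (x₁ * x₁)
      rw [← div_eq_one, ← map_div, hπ]
      refine hsc _ d ?_
      have h7 : t / (x₁ * x₁) = t * (x₁ * x₁) := by
        rw [div_eq_mul_inv]
        congr 1
        rw [inv_eq_iff_mul_eq_one, ← pow_four']
        exact q₁.1
      rw [h7, hm, hm, hx₁, jm_sq, hd, hone]
      congr 1
      ext i
      (revert i; simp only [h6, _root_.Fin.forall_fin_succ, _root_.Nat.succ_eq_add_one, Nat.reduceAdd, Fin.isValue, _root_.Matrix.cons_val_zero, _root_.mul_neg, _root_.mul_one, _root_.neg_neg, _root_.Matrix.cons_val_succ, _root_.Matrix.cons_val_fin_one, _root_.implies_true, _root_.and_self])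

end Crit

end Mat

end Cfsg.Agent.H815.RankL4
end

-- part: H815/RankL4Inst
section
/-!
# Sectional 2-rank of `L₄(q)` and `U₄(q)`: the instances  (helper815)

* `rank_psl_four` : `PSL₄(q)`, `q` odd, `q ≢ 1 (mod 8)`;
* `rank_psu_four` : `PSU₄(q)`, `q` odd, `q ≢ 7 (mod 8)`.
-/

set_option autoImplicit false

namespace Cfsg.Agent.H815.RankL4

open Matrix Cfsg Cfsg.Agent Subgroup Cfsg.Agent.GH.LowRankQ8
open Cfsg.Agent.LieClassical.GUOrder (frob frob_apply mul_map_eq_one_iff)

variable {F : Type*} [Field F]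

theorem sum_two_squares [Fintype F] (h2 : (2 : F) ≠ 0) (c : F) : ∃ p r : F, p ^ 2 + r ^ 2 = c := by
  have hodd : Fintype.card F % 2 = 1 := by
    rcases Nat.mod_two_eq_zero_or_one (Fintype.card F) with h | h
    · exfalso
      have h3 := (FiniteField.even_card_iff_char_two (F := F)).2 h
      have h4 : CharP F 2 := (ringChar.eq_iff (R := F)).1 h3
      exact h2 (by exact_mod_cast CharP.cast_eq_zero F 2)
    · exact h
  obtain ⟨a, b, hab⟩ := FiniteField.exists_root_sum_quadratic (f := (Polynomial.X ^ 2 : Polynomial F))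
    (g := (Polynomial.X ^ 2 - Polynomial.C c : Polynomial F)) (by simp only [_root_.Polynomial.degree_pow, _root_.Polynomial.degree_X, _root_.nsmul_eq_mul, _root_.Nat.cast_ofNat, _root_.mul_one])
    (by rw [Polynomial.degree_X_pow_sub_C (by norm_num)]; rfl) hodd
  simp only [_root_.Polynomial.eval_pow, _root_.Polynomial.eval_X, _root_.Polynomial.eval_sub, _root_.Polynomial.eval_C] at hab
  exact ⟨a, b, by linear_combination hab⟩

theorem det_jm : (jm F).det = 1 := by
  simp only [jm, det_succ_row_zero, Fin.sum_univ_succ, _root_.Nat.succ_eq_add_one, _root_.Nat.reduceAdd, _root_.Fin.isValue, _root_.Matrix.of_apply, _root_.Matrix.cons_val', _root_.Matrix.cons_val_fin_one, _root_.Matrix.cons_val_zero, _root_.Matrix.submatrix_apply, _root_.Fin.succ_zero_eq_one, _root_.Matrix.cons_val_one, _root_.Matrix.submatrix_submatrix, _root_.Function.comp_apply, _root_.Fin.succ_one_eq_two, _root_.Matrix.cons_val, _root_.Matrix.det_unique, _root_.Fin.default_eq_zero, _root_.Fin.reduceSucc,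 _root_.Fin.coe_ofNat_eq_mod, _root_.Nat.zero_mod, _root_.pow_zero, _root_.one_mul, _root_.Fin.zero_succAbove, _root_.Finset.univ_unique, _root_.Fin.val_succ, _root_.Fin.val_eq_zero, _root_.zero_add, _root_.pow_one, _root_.neg_mul, _root_.ne_eq, _root_.Fin.succ_ne_zero, _root_.not_false_eq_true, _root_.Fin.succAbove_ne_zero_zero, _root_.Finset.sum_neg_distrib, _root_.Finset.sum_singleton, _root_.Fin.succ_succAbove_one, _root_.even_two, _root_.Even.neg_pow, _root_.one_pow, _root_.MulZeroClass.mul_zero, _root_.mul_one, _root_.neg_zero, _root_.add_zero, _root_.Matrix.cons_val_succ, _root_.neg_add_rev, _root_.neg_neg, _root_.MulZeroClass.zero_mul, _root_.mul_neg, _root_.Finset.sum_const_zero]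
  rfl

theorem det_jm' : (jm' F).det = 1 := by
  (simp only [jm', _root_.pow_one, _root_.ne_eq, _root_.not_false_eq_true, _root_.one_pow, Cfsg.Agent.Lib.MatLit.d])

theorem det_xm {p r : F} (h : p ^ 2 + r ^ 2 = -1) : (xm p r).det = 1 := by
  simp only [xm, det_succ_row_zero, Fin.sum_univ_succ, _root_.Nat.succ_eq_add_one, _root_.Nat.reduceAdd, _root_.Fin.isValue, _root_.Matrix.of_apply, _root_.Matrix.cons_val', _root_.Matrix.cons_val_fin_one, _root_.Matrix.cons_val_zero, _root_.Matrix.submatrix_apply, _root_.Fin.succ_zero_eq_one, _root_.Matrix.cons_val_one, _root_.Matrix.submatrix_submatrix, _root_.Function.comp_apply, _root_.Fin.succ_one_eq_two, _root_.Matrix.cons_val, _root_.Matrix.det_unique, _root_.Fin.default_eq_zero, _root_.Fin.reduceSucc, _root_.Fin.coe_ofNat_eq_mod, _root_.Nat.zero_mod, _root_.pow_zero, _root_.one_mul, _root_.Fin.zero_succAbove, _root_.Finset.univ_unique, _root_.Fin.val_succ, _root_.Fin.val_eq_zero, _root_.zero_add, _root_.pow_one, _root_.neg_mul,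 _root_.ne_eq, _root_.Fin.succ_ne_zero, _root_.not_false_eq_true, _root_.Fin.succAbove_ne_zero_zero, _root_.Finset.sum_neg_distrib, _root_.Finset.sum_singleton, _root_.Fin.succ_succAbove_one, _root_.even_two, _root_.Even.neg_pow, _root_.one_pow, _root_.mul_one, _root_.MulZeroClass.mul_zero, _root_.neg_zero, _root_.add_zero, _root_.mul_neg, _root_.Matrix.cons_val_succ, _root_.MulZeroClass.zero_mul, _root_.Finset.sum_const_zero]
  have e : (![0, 0, 0, 1] : Fin 4 → F) (Fin.succAbove 1 2) = 1 := rfl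
  rw [e]
  linear_combination -h

theorem det_xm' {p r : F} (h : p ^ 2 + r ^ 2 = -1) : (xm' p r).det = 1 := by
  (simp only [xm', _root_.pow_one, _root_.ne_eq, _root_.not_false_eq_true, _root_.one_pow, Cfsg.Agent.Lib.MatLit.d])
  linear_combination -h

/-- **`PSL₄(q)`, `q` odd, `q ≢ 1 (mod 8)`.** -/
theorem rank_psl_four [Fintype F] (hF : Odd (Fintype.card F)) (h8 : Fintype.card F % 8 ≠ 1) :
    SectionalPRankLE 2 4 (ProjectiveSpecialLinearGroup (Fin 4) F) := by
  have h2 : (2 : F) ≠ 0 := GH.LowRankLie.two_ne_zero_of_odd hF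
  obtain ⟨p, r, hpr⟩ := sum_two_squares h2 (-1 : F)
  refine rank_four (MonoidHom.id (_root_.Matrix.SpecialLinearGroup (Fin 4) F)) Function.injective_id h2 ?_ hpr
    (x₁ := ⟨jm F, det_jm⟩) (y₁ := ⟨xm p r, det_xm hpr⟩) (x₂ := ⟨jm' F, det_jm'⟩) (y₂ := ⟨xm' p r, det_xm' hpr⟩)
    rfl rfl rfl rfl (N := Fintype.card F - 1) ?_ ?_
  · intro z hz
    obtain ⟨c, -, hc⟩ := Matrix.SpecialLinearGroup.mem_center_iff.1 hz
    exact ⟨c, by rw [MonoidHom.id_apply, ← hc]; rfl⟩
  · intro h
    have := Fintype.one_lt_card (α := F)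
    omega
  · intro g a d hg
    have hdet : a * a * d * d = 1 := by
      have h3 : ((MonoidHom.id _) g : _root_.Matrix.SpecialLinearGroup (Fin 4) F).1.det = 1 := g.2
      rw [hg, det_diagonal, Fin.prod_univ_four] at h3
      exact h3
    have ha0 : a ≠ 0 := by
      rintro rfl
      rw [zero_mul, zero_mul, zero_mul] at hdet
      exact zero_ne_one hdet
    have hd0 : d ≠ 0 := by
      rintro rfl
      rw [mul_zero] at hdet
      exact zero_ne_one hdet
    exact ⟨FiniteField.pow_card_sub_one_eq_one a ha0, FiniteField.pow_card_sub_one_eq_one d hd0⟩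

/-! ### The unitary groups -/

section Unitary

variable [Fintype F] {q : ℕ}

theorem mem_SU_iff' (hF : Fintype.card F = q ^ 2) (M : _root_.Matrix.SpecialLinearGroup (Fin 4) F) :
    M ∈ SU 4 F q ↔ M.1ᵀ * M.1.map (frob hF) = 1 :=
  (LieClassical.SUBasic.mem_SU_iff M).trans (mul_map_eq_one_iff hF M.1)

/-- `p, r` with `p^q = -p`, `r^q = -r`, `p² + r² = -1` -/
theorem exists_skew (hF : Fintype.card F = q ^ 2) (hq : Odd q) :
    ∃ p r : F, p ^ q = -p ∧ r ^ q = -r ∧ p ^ 2 + r ^ 2 = -1 := by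
  classical
  have h2 : (2 : F) ≠ 0 := GH.LowRankLie.two_ne_zero_of_odd (by rw [hF]; exact hq.pow)
  obtain ⟨x, hx⟩ := LieClassical.HermBasic.exists_not_fixed hF
  set φ := frob hF with hφ
  have hφa : ∀ y : F, φ y = y ^ q := fun y => rfl
  have hφφ : ∀ y : F, φ (φ y) = y := by
    intro y
    rw [hφa, hφa, ← pow_mul, ← pow_two, ← hF, FiniteField.pow_card]
  -- a skew element
  set e := x - φ x with he
  have he0 : e ≠ 0 := fun h => hx (sub_eq_zero.1 h).symm
  have hee : φ e = -e := by rw [he, map_sub, hφφ]; ring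
  let L : Subfield F := RingHom.eqLocusField (φ : F →+* F) (RingHom.id F)
  have hL : ∀ y : F, y ∈ L ↔ φ y = y := fun y => Iff.rfl
  have hc : -(e ^ 2)⁻¹ ∈ L := by
    rw [hL, map_neg, map_inv₀, map_pow, hee, neg_sq]
  have h2L : (2 : L) ≠ 0 := by
    intro h
    apply h2
    have h3 : L.subtype 2 = 2 := map_ofNat L.subtype 2
    rw [← h3, h, map_zero]
  obtain ⟨a, b, hab⟩ := sum_two_squares h2L (⟨_, hc⟩ : L)
  have hab' : (a : F) ^ 2 + (b : F) ^ 2 = -(e ^ 2)⁻¹ := congrArg Subtype.val hab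
  refine ⟨e * a, e * b, ?_, ?_, ?_⟩
  · rw [← hφa, map_mul, hee, (hL a).1 a.2]; ring
  · rw [← hφa, map_mul, hee, (hL b).1 b.2]; ring
  · have : (e * (a : F)) ^ 2 + (e * b) ^ 2 = e ^ 2 * ((a : F) ^ 2 + (b : F) ^ 2) := by ring
    rw [this, hab', mul_neg, mul_inv_cancel₀ (pow_ne_zero _ he0)]

theorem jm_mem (hF : Fintype.card F = q ^ 2) : (⟨jm F, det_jm⟩ : _root_.Matrix.SpecialLinearGroup (Fin 4) F) ∈ SU 4 F q := by
  refine (mem_SU_iff' hF _).2 ?_
  ext i j
  (revert i j; simp only [jm, _root_.map_zero, _root_.map_neg, _root_.map_one, _root_.mul_neg, _root_.neg_neg, Nat.reduceAdd, _root_.ne_eq, _root_.zero_ne_one, _root_.not_false_eq_true, _root_.neg_eq_zero, Cfsg.Agent.Lib.MatLit.r4])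

theorem jm'_mem (hF : Fintype.card F = q ^ 2) : (⟨jm' F, det_jm'⟩ : _root_.Matrix.SpecialLinearGroup (Fin 4) F) ∈ SU 4 F q := by
  refine (mem_SU_iff' hF _).2 ?_
  ext i j
  (revert i j; simp only [jm', mul_apply, Fin.sum_univ_four, _root_.Fin.forall_fin_succ, _root_.Matrix.transpose_apply, _root_.Matrix.of_apply, _root_.Matrix.cons_val', _root_.Matrix.cons_val_fin_one, _root_.Matrix.map_apply, Fin.isValue, _root_.Matrix.cons_val_zero, _root_.Matrix.cons_val_one, _root_.Matrix.cons_val, _root_.map_one, _root_.mul_one, _root_.map_zero, _root_.MulZeroClass.mul_zero, _root_.add_zero, _root_.Matrix.cons_val_succ, _root_.zero_add, _root_.map_neg, _root_.mul_neg, _root_.IsEmpty.forall_iff, _root_.and_true, _root_.Matrix.one_apply_eq, Nat.reduceAdd, _root_.Fin.succ_zero_eq_one, _root_.ne_eq, _root_.zero_ne_one, _root_.not_false_eq_true, _root_.Matrix.one_apply_ne, _root_.neg_zero, _root_.Fin.succ_one_eq_two, Fin.reduceEq, Fin.reduceSucc, _root_.and_self, _root_.Fin.succ_ne_zero,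 _root_.neg_neg, _root_.true_and])

theorem xm_mem (hF : Fintype.card F = q ^ 2) {p r : F} (hp : p ^ q = -p) (hr : r ^ q = -r) (h : p ^ 2 + r ^ 2 = -1) :
    (⟨xm p r, det_xm h⟩ : _root_.Matrix.SpecialLinearGroup (Fin 4) F) ∈ SU 4 F q := by
  refine (mem_SU_iff' hF _).2 ?_
  have hp' : frob hF p = -p := hp
  have hr' : frob hF r = -r := hr
  have h1 : -(p * p) + -(r * r) = 1 := by linear_combination -h
  have h2 : -(r * r) + -(p * p) = 1 := by linear_combination -h
  ext i j
  (revert i j; simp only [xm, mul_apply, Fin.sum_univ_four, hp', hr', h1, h2, _root_.Fin.forall_fin_succ, _root_.Matrix.transpose_apply, _root_.Matrix.of_apply, _root_.Matrix.cons_val', _root_.Matrix.cons_val_fin_one, _root_.Matrix.map_apply, Fin.isValue, _root_.Matrix.cons_val_zero, _root_.Matrix.cons_val_one, _root_.Matrix.cons_val, _root_.mul_neg, _root_.map_zero, _root_.MulZeroClass.mul_zero, _root_.add_zero, _root_.Matrix.cons_val_succ, _root_.map_neg, _root_.neg_neg, _root_.map_one, _root_.mul_one,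 _root_.zero_add, _root_.IsEmpty.forall_iff, _root_.and_true, _root_.Matrix.one_apply_eq, Nat.reduceAdd, _root_.Fin.succ_zero_eq_one, _root_.ne_eq, _root_.zero_ne_one, _root_.not_false_eq_true, _root_.Matrix.one_apply_ne, _root_.Fin.succ_one_eq_two, Fin.reduceEq, Fin.reduceSucc, _root_.and_self, _root_.true_and, _root_.Fin.succ_ne_zero, _root_.neg_mul, _root_.MulZeroClass.zero_mul, _root_.neg_zero]) <;> (repeat' with_reducible apply And.intro) <;> ring

theorem xm'_mem (hF : Fintype.card F = q ^ 2) {p r : F} (hp : p ^ q = -p) (hr : r ^ q = -r) (h : p ^ 2 + r ^ 2 = -1) :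
    (⟨xm' p r, det_xm' h⟩ : _root_.Matrix.SpecialLinearGroup (Fin 4) F) ∈ SU 4 F q := by
  refine (mem_SU_iff' hF _).2 ?_
  have hp' : frob hF p = -p := hp
  have hr' : frob hF r = -r := hr
  have h1 : -(p * p) + -(r * r) = 1 := by linear_combination -h
  have h2 : -(r * r) + -(p * p) = 1 := by linear_combination -h
  ext i j
  (revert i j; simp only [xm', mul_apply, Fin.sum_univ_four, hp', hr', h1, h2, _root_.Fin.forall_fin_succ, _root_.Matrix.transpose_apply, _root_.Matrix.of_apply, _root_.Matrix.cons_val', _root_.Matrix.cons_val_fin_one, _root_.Matrix.map_apply, Fin.isValue, _root_.Matrix.cons_val_zero, _root_.Matrix.cons_val_one, _root_.Matrix.cons_val, _root_.map_one, _root_.mul_one, _root_.map_zero, _root_.MulZeroClass.mul_zero, _root_.add_zero, _root_.Matrix.cons_val_succ, _root_.zero_add, _root_.mul_neg, _root_.map_neg, _root_.neg_neg, _root_.IsEmpty.forall_iff, _root_.and_true, _root_.Matrix.one_apply_eq, Nat.reduceAdd, _root_.Fin.succ_zero_eq_one, _root_.ne_eq,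 _root_.zero_ne_one, _root_.not_false_eq_true, _root_.Matrix.one_apply_ne, _root_.MulZeroClass.zero_mul, _root_.neg_zero, _root_.Fin.succ_one_eq_two, Fin.reduceEq, Fin.reduceSucc, _root_.and_self, _root_.Fin.succ_ne_zero, _root_.true_and, _root_.neg_mul]) <;> (repeat' with_reducible apply And.intro) <;> ring

/-- **`PSU₄(q)`, `q` odd, `q ≢ 7 (mod 8)`.** -/
theorem rank_psu_four (hF : Fintype.card F = q ^ 2) (hq : Odd q) (h8 : q % 8 ≠ 7) :
    SectionalPRankLE 2 4 (PSU 4 F q) := by
  have h2 : (2 : F) ≠ 0 := GH.LowRankLie.two_ne_zero_of_odd (by rw [hF]; exact hq.pow)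
  obtain ⟨p, r, hp, hr, hpr⟩ := exists_skew hF hq
  refine rank_four (SU 4 F q).subtype Subtype.coe_injective h2 ?_ hpr
    (x₁ := ⟨⟨jm F, det_jm⟩, jm_mem hF⟩) (y₁ := ⟨⟨xm p r, det_xm hpr⟩, xm_mem hF hp hr hpr⟩)
    (x₂ := ⟨⟨jm' F, det_jm'⟩, jm'_mem hF⟩) (y₂ := ⟨⟨xm' p r, det_xm' hpr⟩, xm'_mem hF hp hr hpr⟩)
    rfl rfl rfl rfl (N := q + 1) ?_ ?_
  · intro z hz
    obtain ⟨c, hcn, hcq, hc⟩ := (LieClassical.SUBasic.mem_center_SU_iff hF (by norm_num) z).1 hz
    exact ⟨c, by rw [hc]; rfl⟩
  · intro h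
    omega
  · intro g a d hg
    have h1 := (mem_SU_iff' hF g.1).1 g.2
    change (((SU 4 F q).subtype g).1)ᵀ * (((SU 4 F q).subtype g).1).map (frob hF) = 1 at h1
    rw [hg, diagonal_transpose, diagonal_map (map_zero _), diagonal_mul_diagonal, ← diagonal_one] at h1
    have h3 := congrFun (diagonal_injective h1) 0
    have h4 := congrFun (diagonal_injective h1) 2
    refine ⟨?_, ?_⟩
    · rw [pow_succ']; exact h3
    · rw [pow_succ']; exact h4

end Unitary

end Cfsg.Agent.H815.RankL4
end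

private theorem dce_04c8423acfe9 : _root_.True := by
  try have : _root_.True := by simp only [_root_.Cfsg.Agent.H815.RankL4.jm'.eq_1]
  try have : _root_.True := by simp only [_root_.Cfsg.Agent.H815.RankL4.xm'.eq_1]
  try have : _root_.True := by simp only [_root_.Cfsg.Agent.H815.RankL4.jm.eq_1]
  try have : _root_.True := by simp only [_root_.Cfsg.Agent.H815.RankL4.xm.eq_1]
  exact _root_.True.intro
end

-- part: H815/RankG2
section
set_option linter.all false
open scoped Cfsg.Agent.FastGrp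

/-!
# Sectional 2-rank of `G₂(q)`, `³D₄(q)`, `q` odd, and of groups with a Sylow 2-subgroup of order at most 16 (helper815)

* `rank_T` : the model `(Z_m × Z_m) ⋊ (Z_2 × Z_2)` has sectional 2-rank at most 4;
* `rank_g2`, `rank_d4` : `G₂(q)`, `³D₄(q)`;
* `rank_of_sylow_card` : a Sylow 2-subgroup of order at most `2 ^ k`.
-/

set_option autoImplicit false

namespace Cfsg.Agent.H815.RankG2

open Cfsg Cfsg.Agent Subgroup Cfsg.Lie Cfsg.Agent.ClassificationK.GTwoModel

/-- the homocyclic subgroup -/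
def ab (m : ℕ) : Multiplicative (ZMod m) × Multiplicative (ZMod m) →* T m where
  toFun p := ⟨p.1.toAdd, p.2.toAdd, false, false⟩
  map_one' := rfl
  map_mul' p q := by
    rw [T.mul_mk]
    simp only [sg_false, cond_false, Bool.xor_false, one_mul]
    rfl

theorem ab_injective (m : ℕ) : Function.Injective (ab m) := by
  intro p q h
  have h1 := congrArg T.i h
  have h2 := congrArg T.j h
  exact Prod.ext h1 h2

theorem rank_prod (m : ℕ) [NeZero m] :
    SectionalPRankLE 2 2 (Multiplicative (ZMod m) × Multiplicative (ZMod m)) := by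
  have h1 : SectionalPRankLE 2 1 (Multiplicative (ZMod m)) :=
    RankThreeFus.RankEnd.cyclic_one inferInstance
  have h2 := (GH.Rank.srank_le_iff (p := 2) (by norm_num)).2 h1
  rw [← GH.Rank.srank_le_iff (by norm_num), GH.Rank.srank_prod Nat.prime_two]
  omega

theorem rank_T (m : ℕ) [NeZero m] : SectionalPRankLE 2 4 (T m) := by
  have h1 : SectionalPRankLE 2 2 ↥(ab m).range :=
    GH.Rank.of_surjective (rank_prod m) (ab m).rangeRestrict (ab m).rangeRestrict_surjective
  refine GH.Rank.of_index_le (a := 2) (b := 2) h1 ?_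
  have h2 := (ab m).range.card_mul_index
  rw [T.card_T, ← Nat.card_congr (MonoidHom.ofInjective (ab_injective m)).toEquiv, Nat.card_prod] at h2
  have h3 : Nat.card (Multiplicative (ZMod m)) = m := Nat.card_zmod m
  rw [h3] at h2
  have h4 : 0 < m * m := Nat.mul_pos (Nat.pos_of_ne_zero (NeZero.ne m)) (Nat.pos_of_ne_zero (NeZero.ne m))
  have h5 : m * m * (ab m).range.index = m * m * 4 := by rw [h2]; ring
  have h6 := Nat.eq_of_mul_eq_mul_left h4 h5
  omega

/-- **`G₂(q)`, `q` odd.** -/
theorem rank_g2 {F : Type*} [Field F] [Fintype F] (hF : Odd (Fintype.card F)) :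
    SectionalPRankLE 2 4 ↥(chevG2.group F) := by
  have : Fact (Nat.Prime 2) := ⟨Nat.prime_two⟩
  obtain ⟨P⟩ : Nonempty (Sylow 2 ↥(chevG2.group F)) := inferInstance
  obtain ⟨k, hk, ⟨e⟩⟩ := ClassificationK.GTwoSylow.exists_equiv hF (S1059.result rfl) P
  rw [← GH.Rank.sylow_iff P]
  have : NeZero (2 * 2 ^ k) := ⟨by positivity⟩
  exact GH.Rank.of_equiv (rank_T _) e

/-- **`³D₄(q)`, `q` odd.** -/
theorem rank_d4 {K : Type*} [Field K] [Fintype K] {q : ℕ} (hq : Odd q) (hK : Fintype.card K = q ^ 3) :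
    SectionalPRankLE 2 4 ↥(twistedD4 K q) := by
  have : Fact (Nat.Prime 2) := ⟨Nat.prime_two⟩
  obtain ⟨P⟩ : Nonempty (Sylow 2 ↥(twistedD4 K q)) := inferInstance
  obtain ⟨k, m, hk, -, -, ⟨e⟩⟩ := H285.D4Sylow.exists_equiv hq hK P
  rw [← GH.Rank.sylow_iff P]
  have : NeZero (2 * 2 ^ k) := ⟨by positivity⟩
  exact GH.Rank.of_equiv (rank_T _) e

/-- a Sylow 2-subgroup of order at most `2 ^ k` -/
theorem rank_of_sylow_card {G : Type*} [Group G] [Finite G] {k : ℕ} (P : Sylow 2 G)
    (h : Nat.card ↥(P : Subgroup G) ≤ 2 ^ k) : SectionalPRankLE 2 k G := by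
  have : Fact (Nat.Prime 2) := ⟨Nat.prime_two⟩
  rw [← GH.Rank.sylow_iff P]
  exact TwoFusion.SectionalRank.sectionalPRankLE_of_card_le h

/-- order not divisible by `2 ^ (k + 1)` -/
theorem rank_of_not_dvd {G : Type*} [Group G] [Finite G] {k : ℕ} (h : ¬ 2 ^ (k + 1) ∣ Nat.card G) :
    SectionalPRankLE 2 k G := by
  have : Fact (Nat.Prime 2) := ⟨Nat.prime_two⟩
  obtain ⟨P⟩ : Nonempty (Sylow 2 G) := inferInstance
  refine rank_of_sylow_card P ?_
  rw [P.card_eq_multiplicity]
  refine Nat.pow_le_pow_right (by norm_num) ?_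
  by_contra hcon
  exact h ((Nat.Prime.pow_dvd_iff_le_factorization Nat.prime_two Nat.card_pos.ne').2 (by omega))

/-- **The small Ree groups.** -/
theorem rank_ree_group {K : Type*} [Field K] [Fintype K] {m : ℕ} (hK : Fintype.card K = 3 ^ (2 * m + 1)) :
    SectionalPRankLE 2 3 ↥(twistedG2 K (3 ^ m)) := by
  apply rank_of_not_dvd
  rw [ChevalleyStructure.ReeCount.card_twistedG2 hK]
  set q := 3 ^ (2 * m + 1) with hq
  have h8 : q % 8 = 3 := by
    rw [hq, pow_succ, pow_mul, Nat.mul_mod, Nat.pow_mod]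
    norm_num
  have h3 : (q ^ 3) % 8 = 3 := by
    rw [Nat.pow_mod, h8]
  obtain ⟨a, ha⟩ : ∃ a, q - 1 = 2 * (4 * a + 1) := ⟨q / 8, by omega⟩
  obtain ⟨b, hb⟩ : ∃ b, q ^ 3 + 1 = 4 * (2 * b + 1) := ⟨q ^ 3 / 8, by omega⟩
  rw [ha, hb]
  have hodd : Odd (q ^ 3 * (4 * a + 1) * (2 * b + 1)) := by
    refine ((Nat.odd_iff.2 (by omega)).mul (Nat.odd_iff.2 (by omega))).mul (Nat.odd_iff.2 (by omega))
  rw [show q ^ 3 * (2 * (4 * a + 1)) * (4 * (2 * b + 1)) = 2 ^ 3 * (q ^ 3 * (4 * a + 1) * (2 * b + 1)) by ring,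
    pow_succ 2 3]
  intro h
  have h2 := Nat.dvd_of_mul_dvd_mul_left (by norm_num) h
  exact (Nat.not_even_iff_odd.2 hodd) (even_iff_two_dvd.2 h2)

/-- **The small Ree groups.** -/
theorem rank_ree {X : Type*} [Group X] (h : Lie.IsoRee X) : SectionalPRankLE 2 4 X := by
  obtain ⟨K, iK, iF, m, -, hK, ⟨e⟩⟩ := h
  have : Finite ↥(twistedG2 K (3 ^ m)) := inferInstance
  exact GH.Rank.of_equiv (GH.Rank.le_mono (by norm_num) (rank_ree_group hK) (by norm_num)) e.symm

end Cfsg.Agent.H815.RankG2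
end
end
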