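import Mathlib
import Cfsg.Agent.H300.RankSp4
import Cfsg.Agent.H284.CharTwoComp
import Cfsg.Agent.H292.PsuTwo
import Cfsg.Agent.StdAlt.Six.Aut
import Cfsg.Agent.Lib.FastPerm
import Cfsg.Agent.FastGrp
import Cfsg.Agent.Prune
set_option linter.all false

section
prune_inst 0x7f00000000000000000000000000000000000000000000000000000000000000000000000000000000000000000000000000000000000000000000000000000000000000000000000000000000000000003fffffffffffffffffffffffffffbeffbdffffffff

-- part: H300/D8Base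
section
set_option linter.all false
open scoped Cfsg.Agent.FastGrp

/-!
# Components of `C_X(x)` with dihedral Sylow 2-subgroups of order 8: tools (helper300)

* `D8 A` : the Sylow 2-subgroups of `A` are dihedral of order 8;
* `NoFour E` : `E` has no element of order 4;
* `Core.embed`, `Core.derived` : complements to `H292.Out`;
* `rank_of_four` : `A ⊴ C_X(x)`, `C(A) = 1`, `A ≅ P`, `V ≤ P` a four-group such that the automorphisms fixing `V`
  elementwise are induced by `V`: sectional 2-rank at most 4.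
-/

set_option autoImplicit false

namespace Cfsg.Agent.H300.D8Base

open Subgroup Cfsg Cfsg.Agent.H292.Out Cfsg.Agent.H284.CharTwoComp

universe u v w

/-- The Sylow 2-subgroups are dihedral of order 8. -/
def D8 (A : Type*) [Group A] : Prop := ∀ S : Sylow 2 A, Nonempty (↥(S : Subgroup A) ≃* DihedralGroup 4)

theorem D8.congr {A B : Type*} [Group A] [Group B] (e : A ≃* B) (h : D8 A) : D8 B := by
  intro S
  let T : Sylow 2 A := S.comapOfInjective e.toMonoidHom e.injective (by
    rw [MonoidHom.range_eq_top.2 e.surjective]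
    exact le_top)
  obtain ⟨f⟩ := h T
  have h1 : ((T : Subgroup A)).map e.toMonoidHom = (S : Subgroup B) := by
    change ((S : Subgroup B).comap e.toMonoidHom).map e.toMonoidHom = _
    exact map_comap_eq_self_of_surjective e.surjective _
  exact ⟨((MulEquiv.subgroupCongr h1.symm).trans (equivMapOfInjective _ e.toMonoidHom e.injective).symm).trans f⟩

theorem D8.card_sylow {A : Type*} [Group A] [Finite A] (h : D8 A) (S : Sylow 2 A) : Nat.card ↥(S : Subgroup A) = 8 := by
  obtain ⟨e⟩ := h S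
  rw [Nat.card_congr e.toEquiv, DihedralGroup.nat_card]

theorem D8.not_dvd {A : Type*} [Group A] [Finite A] (h : D8 A) : ¬ 16 ∣ Nat.card A := by
  have : Fact (Nat.Prime 2) := ⟨Nat.prime_two⟩
  intro h16
  obtain ⟨H, hH⟩ := Sylow.exists_subgroup_card_pow_prime 2 (n := 4) (G := A) (by norm_num; exact h16)
  obtain ⟨S, hS⟩ := (IsPGroup.of_card hH).exists_le_sylow
  have h1 := card_dvd_of_le hS
  rw [hH, h.card_sylow S] at h1
  norm_num at h1

theorem D8.dvd {A : Type*} [Group A] [Finite A] (h : D8 A) : 8 ∣ Nat.card A := by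
  have S : Sylow 2 A := default
  rw [← h.card_sylow S]
  exact card_subgroup_dvd_card _

/-- no elements of order four -/
def NoFour (E : Type*) [Group E] : Prop := ∀ g : E, g ^ 4 = 1 → g ^ 2 = 1

theorem NoFour.of_injective {A E : Type*} [Group A] [Group E] (h : NoFour E) (f : A →* E)
    (hf : Function.Injective f) : NoFour A := by
  intro g hg
  apply hf
  rw [map_pow, map_one]
  apply h
  rw [← map_pow, hg, map_one]

theorem D8.not_noFour {A : Type*} [Group A] (h : D8 A) : ¬ NoFour A := by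
  intro h4
  obtain ⟨e⟩ := h default
  have h1 := h4.of_injective (((default : Sylow 2 A) : Subgroup A).subtype.comp e.symm.toMonoidHom)
    ((subtype_injective _).comp e.symm.injective)
  have h2 := h1 (DihedralGroup.r 1) (by decide)
  revert h2
  decide

/-! ### `Core` -/

section core

variable {K : Type u} [Group K] {x : MulAut K} {E : Type w} [Group E]

theorem core_embed (h : Core x E) {A : Subgroup ↥(fixedSubgroup x)} (hA : IsComponent A) :
    ∃ g : ↥A →* E, Function.Injective g := by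
  obtain ⟨f, h1, h2, k, h3⟩ := h
  have hN : f.range ≤ fixedSubgroup x := by
    rintro _ ⟨e, rfl⟩
    exact h2 e
  let e1 : E ≃* ↥(f.range.subgroupOf (fixedSubgroup x)) :=
    (MonoidHom.ofInjective h1).trans (subgroupOfEquivOfLe hN).symm
  have hAN : A ≤ f.range.subgroupOf (fixedSubgroup x) := (le_derived hA.2 k).trans h3
  exact ⟨e1.symm.toMonoidHom.comp (inclusion hAN), e1.symm.injective.comp (inclusion_injective hAN)⟩

theorem core_derived (h : Core x E) : Core x ↥(commutator E) := by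
  obtain ⟨f, h1, h2, k, h3⟩ := h
  refine ⟨f.comp (commutator E).subtype, h1.comp (subtype_injective _), fun e => h2 _, k + 1, ?_⟩
  have h4 : (f.comp (commutator E).subtype).range = ⁅f.range, f.range⁆ := by
    rw [MonoidHom.range_comp, range_subtype, commutator_def, map_commutator, ← MonoidHom.range_eq_map]
  rw [h4, derivedSeries_succ]
  have hN : f.range ≤ fixedSubgroup x := by
    rintro _ ⟨e, rfl⟩
    exact h2 e
  refine (commutator_mono h3 h3).trans ?_
  rw [commutator_le]
  intro a ha b hb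
  exact commutator_mem_commutator (mem_subgroupOf.1 ha) (mem_subgroupOf.1 hb)

/-- solvable cores -/
theorem core_no_solv (h : Core x E) (hs : Group.IsSolvable E) {A : Subgroup ↥(fixedSubgroup x)} (hA : IsComponent A) :
    False := by
  obtain ⟨g, hg⟩ := core_embed h hA
  exact SignalizersComponents.Components.quasisimple_not_isSolvable hA.2 (Group.isSolvable_of_isSolvable_injective hg)

end core

/-- involutory automorphisms with a central involution in the fixed points -/
theorem no_comp_cen {K : Type u} [Group K] [Finite K] (h : ACT K) {x : MulAut K} (hx : x ^ 2 = 1) (hc : Cen x)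
    {A : Subgroup ↥(fixedSubgroup x)} (hA : IsComponent A) : False := by
  obtain ⟨z, h1, h2, h3, h4⟩ := hc
  obtain ⟨-, -, h5, -⟩ := of_fix h (by rw [← pow_two, hx]) hA
  have h6 : (⟨z, h3⟩ : ↥(fixedSubgroup x)) ∈ centralizer (A : Set ↥(fixedSubgroup x)) := by
    rw [mem_centralizer_iff]
    rintro ⟨y, hy⟩ -
    exact Subtype.ext (h4 y hy)
  rw [h5, mem_bot] at h6
  exact h1 (congrArg Subtype.val h6)

/-! ### the rank lemma -/

/-- a four-group such that the automorphisms fixing it elementwise are induced by it -/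
def Tight (P : Type*) [Group P] : Prop := ∃ V : Subgroup P, (∀ a ∈ V, ∀ b ∈ V, a * b = b * a) ∧
  (∀ a ∈ V, a * a = 1) ∧ Nat.card ↥V = 4 ∧ ∀ y : MulAut P, (∀ v ∈ V, y v = v) → ∃ a ∈ V, y = MulAut.conj a

theorem rank_of_four {X : Type u} [Group X] [Finite X] {x : MulAut X} (hxx : x * x = 1) (hx1 : x ≠ 1)
    {A : Subgroup ↥(fixedSubgroup x)} (hn : A.Normal) (hc : centralizer (A : Set ↥(fixedSubgroup x)) = ⊥)
    {P : Type*} [Group P] (hP : Tight P) (e : ↥A ≃* P) : SectionalPRankLE 2 4 X := by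
  obtain ⟨V, h1, h2, h3, h4⟩ := hP
  let i : P →* X := (fixedSubgroup x).subtype.comp (A.subtype.comp e.symm.toMonoidHom)
  have hi : Function.Injective i := (subtype_injective _).comp ((subtype_injective _).comp e.symm.injective)
  refine H284.RankFix.rank_fix hxx hx1 (V.map i) ?_ ?_ ?_ ?_ ?_
  · rintro _ ⟨v, -, rfl⟩
    exact (A.subtype (e.symm v)).2
  · rintro _ ⟨a, ha, rfl⟩ _ ⟨b, hb, rfl⟩
    rw [← map_mul, h1 a ha b hb, map_mul]
  · rintro _ ⟨a, ha, rfl⟩
    rw [← map_mul, h2 a ha, map_one]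
  · rw [card_map_of_injective hi]
    exact h3
  · intro g hg hgv
    let g' : ↥(fixedSubgroup x) := ⟨g, hg⟩
    let c : MulAut P := (e.symm.trans (MulAut.conjNormal g' : MulAut ↥A)).trans e
    obtain ⟨a, ha, hac⟩ := h4 c (by
      intro v hv
      have h5 := hgv _ ⟨v, hv, rfl⟩
      have h6 : (MulAut.conjNormal g' : MulAut ↥A) (e.symm v) = e.symm v := by
        apply Subtype.ext
        rw [MulAut.conjNormal_apply]
        apply Subtype.ext
        change g * i v * g⁻¹ = i v
        rw [h5, mul_inv_cancel_right]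
      change e ((MulAut.conjNormal g' : MulAut ↥A) (e.symm v)) = v
      rw [h6, e.apply_symm_apply])
    refine ⟨a, ha, ?_⟩
    have h7 : ((e.symm a : ↥A) : ↥(fixedSubgroup x))⁻¹ * g' ∈ centralizer (A : Set ↥(fixedSubgroup x)) := by
      rw [mem_centralizer_iff]
      intro y hy
      have h8 : c (e ⟨y, hy⟩) = a * e ⟨y, hy⟩ * a⁻¹ := by rw [hac]; rfl
      have h9 : c (e ⟨y, hy⟩) = e ((MulAut.conjNormal g' : MulAut ↥A) ⟨y, hy⟩) := by
        change e ((MulAut.conjNormal g' : MulAut ↥A) (e.symm (e ⟨y, hy⟩))) = _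
        rw [e.symm_apply_apply]
      rw [h9] at h8
      have h10 := congrArg (fun t => (e.symm t : ↥(fixedSubgroup x))) h8
      simp only [e.symm_apply_apply, map_mul, map_inv, coe_mul, coe_inv] at h10
      rw [MulAut.conjNormal_apply] at h10
      change g' * y * g'⁻¹ = _ at h10
      have h11 : g' * y = ((e.symm a : ↥A) : ↥(fixedSubgroup x)) * y * ((e.symm a : ↥A) : ↥(fixedSubgroup x))⁻¹ * g' := by
        rw [← h10, inv_mul_cancel_right]
      rw [mul_assoc _ g' y, h11]
      group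
    rw [hc, mem_bot, inv_mul_eq_one] at h7
    exact congrArg Subtype.val h7

end Cfsg.Agent.H300.D8Base
end

-- part: H300/SporBase
section
set_option linter.all false
open scoped Cfsg.Agent.FastGrp

/-!
# Groups acting on a simple group with odd kernel: the fixed points of an involutory automorphism (helper300)

* `Act C P` : `A ⊴ C` maps onto `P`, `C` acts on `P` compatibly, and the kernel of the action has odd order;
* `Act.exists_fix` : elements of `P` fixed by a 2-subgroup `R` of `C` lift to elements of `A` commuting with `R`;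
* `Act.card_dvd` : `|C|` divides `|ker| |Aut P|`;
* `rank_fix` : Harada's theorem, `C_{C_X(x)}(V)` has the Sylow 2-subgroup `V`;
* `ofComp` : the action for a normal quasisimple subgroup `A` with no involution of `C` centralizing `A`.
-/

set_option autoImplicit false

namespace Cfsg.Agent.H300.SporBase

open Subgroup Cfsg Cfsg.Agent

universe u v

/-- `A ⊴ C` maps onto `P`, `C` acts on `P` compatibly, the kernel of the action has odd order -/
structure Act (C : Type u) [Group C] (P : Type v) [Group P] where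
  /-- the normal subgroup -/
  A : Subgroup C
  norm : ∀ (g : C) (a : C), a ∈ A → g * a * g⁻¹ ∈ A
  /-- the projection -/
  π : ↥A →* P
  surj : Function.Surjective π
  /-- the action -/
  φ : C →* MulAut P
  compat : ∀ (g : C) (a : ↥A), π ⟨g * a * g⁻¹, norm g a a.2⟩ = φ g (π a)
  odd : Odd (Nat.card ↥φ.ker)

namespace Act

variable {C : Type u} [Group C] [Finite C] {P : Type v} [Group P] (S : Act C P)

omit [Finite C] in
theorem phi_coe (a : ↥S.A) : S.φ a = MulAut.conj (S.π a) := by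
  ext p
  obtain ⟨b, rfl⟩ := S.surj p
  rw [← S.compat, MulAut.conj_apply, ← map_inv, ← map_mul, ← map_mul]
  rfl

omit [Finite C] in
theorem ker_pi {a : ↥S.A} (h : S.π a = 1) : S.φ a = 1 := by
  rw [S.phi_coe, h, map_one]

theorem pow_ker {g : C} (h : S.φ g = 1) : g ^ Nat.card ↥S.φ.ker = 1 := by
  have h1 : (⟨g, h⟩ : ↥S.φ.ker) ^ Nat.card ↥S.φ.ker = 1 := pow_card_eq_one'
  exact congrArg Subtype.val h1

/-- a 2-element acting trivially is trivial -/
theorem eq_one {g : C} (h : S.φ g = 1) {k : ℕ} (hk : g ^ 2 ^ k = 1) : g = 1 := by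
  have h1 := S.pow_ker h
  have h2 := orderOf_dvd_of_pow_eq_one h1
  have h3 := orderOf_dvd_of_pow_eq_one hk
  have h4 : (Nat.card ↥S.φ.ker).Coprime (2 ^ k) := (Nat.coprime_two_right.2 S.odd).pow_right k
  exact orderOf_eq_one_iff.1 (Nat.eq_one_of_dvd_coprimes h4 h2 h3)

theorem sq_eq_one {g : C} (h : S.φ g * S.φ g = 1) {k : ℕ} (hk : g ^ 2 ^ k = 1) : g * g = 1 := by
  apply S.eq_one (k := k)
  · rw [map_mul, h]
  · rw [← pow_two, ← pow_mul, mul_comm, pow_mul, hk, one_pow]

include S in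
theorem card_dvd [Finite P] : Nat.card C ∣ Nat.card ↥S.φ.ker * Nat.card (MulAut P) := by
  rw [card_eq_card_quotient_mul_card_subgroup S.φ.ker, mul_comm]
  apply Nat.mul_dvd_mul_left
  rw [Nat.card_congr (QuotientGroup.quotientKerEquivRange S.φ).toEquiv]
  exact card_subgroup_dvd_card _

include S in
/-- a power of 2 dividing `|C|` divides `|Aut P|` -/
theorem two_pow_dvd [Finite P] {k : ℕ} (h : 2 ^ k ∣ Nat.card C) : 2 ^ k ∣ Nat.card (MulAut P) := by
  have h1 := h.trans S.card_dvd
  have h2 : (2 ^ k).Coprime (Nat.card ↥S.φ.ker) := (Nat.coprime_two_left.2 S.odd).pow_left k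
  exact h2.dvd_of_dvd_mul_left h1

/-- the kernel of `π` has odd order -/
theorem odd_pi : Odd (Nat.card ↥S.π.ker) := by
  let f : ↥S.π.ker →* ↥S.φ.ker :=
    { toFun := fun a => ⟨((a : ↥S.A) : C), S.ker_pi a.2⟩
      map_one' := rfl
      map_mul' := fun _ _ => rfl }
  have hf : Function.Injective f := by
    intro a b h
    exact Subtype.ext (Subtype.ext (congrArg (fun t : ↥S.φ.ker => (t : C)) h))
  exact S.odd.of_dvd_nat (card_dvd_of_injective f hf)

/-- an element of `P` fixed by the 2-subgroup `R` lifts to an element of `A` commuting with `R` -/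
theorem exists_fix (R : Subgroup C) (hR : IsPGroup 2 ↥R) {p : P} (hp : ∀ r ∈ R, S.φ r p = p) :
    ∃ a : ↥S.A, S.π a = p ∧ ∀ r ∈ R, r * (a : C) = a * r := by
  have h2 : Fact (Nat.Prime 2) := ⟨Nat.prime_two⟩
  obtain ⟨a0, ha0⟩ := S.surj p
  let F : Type u := {a : ↥S.A // S.π a = p}
  let act : MulAction ↥R F :=
    { smul := fun r a => ⟨⟨r * a * (r : C)⁻¹, S.norm r _ (a : ↥S.A).2⟩, by rw [S.compat, a.2, hp r r.2]⟩
      one_smul := fun a => by
        apply Subtype.ext
        apply Subtype.ext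
        change ((1 : ↥R) : C) * ((a : ↥S.A) : C) * ((1 : ↥R) : C)⁻¹ = _
        rw [coe_one, one_mul, inv_one, mul_one]
      mul_smul := fun r s a => by
        apply Subtype.ext
        apply Subtype.ext
        change ((r * s : ↥R) : C) * ((a : ↥S.A) : C) * ((r * s : ↥R) : C)⁻¹ =
          r * (s * ((a : ↥S.A) : C) * (s : C)⁻¹) * (r : C)⁻¹
        rw [coe_mul]
        group }
  have hcard : Nat.card F = Nat.card ↥S.π.ker := by
    apply Nat.card_congr
    exact
      { toFun := fun a => ⟨a0⁻¹ * a, by rw [MonoidHom.mem_ker, map_mul, map_inv, ha0, a.2, inv_mul_cancel]⟩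
        invFun := fun b => ⟨a0 * b, by rw [map_mul, ha0, MonoidHom.mem_ker.1 b.2, mul_one]⟩
        left_inv := fun a => Subtype.ext (by simp)
        right_inv := fun b => Subtype.ext (by simp) }
  obtain ⟨a, ha⟩ := hR.nonempty_fixed_point_of_prime_not_dvd_card F (by
    rw [hcard]
    exact fun h => (Nat.not_even_iff_odd.2 S.odd_pi) (even_iff_two_dvd.2 h))
  refine ⟨a, a.2, fun r hr => ?_⟩
  have h3 := ha ⟨r, hr⟩
  have h4 : r * ((a : ↥S.A) : C) * r⁻¹ = ((a : ↥S.A) : C) := congrArg (fun z : F => ((z : ↥S.A) : C)) h3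
  exact mul_inv_eq_iff_eq_mul.1 h4

/-- the power of a lift -/
theorem exists_pow (a : ↥S.A) {n : ℕ} (hn : n ≠ 0) (h2 : n.Coprime (Nat.card ↥S.π.ker)) (hp : S.π a ^ n = 1) :
    ∃ m : ℕ, S.π (a ^ m) = S.π a ∧ (a ^ m) ^ n = 1 := by
  obtain ⟨m, hm1, hm2⟩ := Nat.chineseRemainder h2 1 0
  refine ⟨m, ?_, ?_⟩
  · rw [map_pow]
    have h3 : S.π a ^ m = S.π a ^ 1 := by
      apply pow_eq_pow_iff_modEq.2
      exact hm1.of_dvd (orderOf_dvd_of_pow_eq_one hp)
    rw [h3, pow_one]
  · have h4 : a ^ n ∈ S.π.ker := by rw [MonoidHom.mem_ker, map_pow, hp]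
    have h5 : (a ^ n) ^ Nat.card ↥S.π.ker = 1 := by
      have h6 : (⟨a ^ n, h4⟩ : ↥S.π.ker) ^ Nat.card ↥S.π.ker = 1 := pow_card_eq_one'
      exact congrArg Subtype.val h6
    obtain ⟨c, hc⟩ := (Nat.modEq_zero_iff_dvd).1 hm2
    rw [← pow_mul, mul_comm, pow_mul, hc, pow_mul, h5, one_pow]

/-- the lift can be chosen of the same order, if this is prime to the kernel -/
theorem exists_fix_pow (R : Subgroup C) (hR : IsPGroup 2 ↥R) {p : P} (hp : ∀ r ∈ R, S.φ r p = p) {n : ℕ} (hn : n ≠ 0)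
    (h2 : n.Coprime (Nat.card ↥S.π.ker)) (hpn : p ^ n = 1) :
    ∃ a : ↥S.A, S.π a = p ∧ a ^ n = 1 ∧ ∀ r ∈ R, r * (a : C) = a * r := by
  obtain ⟨a, ha, hc⟩ := S.exists_fix R hR hp
  obtain ⟨m, h3, h4⟩ := S.exists_pow a hn h2 (by rw [ha, hpn])
  refine ⟨a ^ m, by rw [h3, ha], h4, fun r hr => ?_⟩
  rw [coe_pow]
  exact (Commute.pow_right (show Commute r (a : C) from hc r hr) m).eq

theorem coprime_two_pow (k : ℕ) : (2 ^ k).Coprime (Nat.card ↥S.π.ker) :=
  (Nat.coprime_two_left.2 S.odd_pi).pow_left k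

end Act

section rank

variable {X : Type u} [Group X]

open Cfsg.Agent.H284.RankFix in
/-- **Harada's theorem for an involutory automorphism**, `V` a Sylow 2-subgroup of its centralizer. -/
theorem rank_fix [Finite X] {x : MulAut X} (hxx : x * x = 1) (hx1 : x ≠ 1) (V : Subgroup X)
    (hV : V ≤ fixedSubgroup x) (hc : ∀ a ∈ V, ∀ b ∈ V, a * b = b * a) (h2 : ∀ a ∈ V, a * a = 1)
    (h4 : Nat.card ↥V = 4)
    (hC : ∀ g ∈ fixedSubgroup x, (∀ v ∈ V, g * v = v * g) → (∃ k : ℕ, g ^ 2 ^ k = 1) → g ∈ V) :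
    SectionalPRankLE 2 4 X := by
  have hfin : Finite (Y x) := Finite.of_equiv _ SemidirectProduct.equivProd.symm
  have hox : orderOf x = 2 := by
    apply orderOf_eq_prime _ hx1
    rw [pow_two, hxx]
  have hzc : ∀ a b : ↥(zpowers x), a * b = b * a := fun a b =>
    (IsMulCommutative.is_comm (M := ↥(zpowers x))).comm a b
  have hzz : ∀ a : ↥(zpowers x), a * a = 1 := by
    intro a
    have h1 := pow_card_eq_one' (x := a)
    rw [Nat.card_zpowers, hox, pow_two] at h1
    exact h1
  set E := EE hV with hE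
  have hfx : ∀ c : ↥(zpowers x), ∀ v ∈ V, (c : MulAut X) v = v := fun c v hv => fix_zpowers c.2 (hV hv)
  have hmul : ∀ a b : Y x, a * b = ⟨a.left * (a.right : MulAut X) b.left, a.right * b.right⟩ := fun a b => rfl
  have hcE : ∀ a ∈ E, ∀ b ∈ E, a * b = b * a := by
    intro a ha b hb
    rw [hmul, hmul, hfx _ _ hb, hfx _ _ ha, hc _ ha _ hb, hzc]
  have h2E : ∀ a ∈ E, a * a = 1 := by
    intro a ha
    rw [hmul, hfx _ _ ha, h2 _ ha, hzz]
    rfl
  have hcard : Nat.card ↥E = 8 := by
    let f : ↥E ≃ ↥V × ↥(zpowers x) :=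
      { toFun := fun a => (⟨(a : Y x).left, a.2⟩, (a : Y x).right)
        invFun := fun b => ⟨⟨b.1, b.2⟩, b.1.2⟩
        left_inv := fun a => rfl
        right_inv := fun b => rfl }
    rw [Nat.card_congr f, Nat.card_prod, h4, Nat.card_zpowers, hox]
  have hEp : IsPGroup 2 ↥E := IsPGroup.of_card (n := 3) (by rw [hcard]; norm_num)
  obtain ⟨S, hES⟩ := hEp.exists_le_sylow
  have hr := OddHalf.D6.Harada.rank_of_self S E hES hcE h2E hcard (by
    intro s hsS hs
    -- `s` commutes with `x` and `V`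
    have h1 : (⟨1, ⟨x, mem_zpowers x⟩⟩ : Y x) ∈ E := V.one_mem
    have h3 := hs _ h1
    have h5 : s.left = x s.left := by
      have := congrArg SemidirectProduct.left h3
      rw [hmul, hmul] at this
      change s.left * (s.right : MulAut X) 1 = 1 * x s.left at this
      rwa [map_one, mul_one, one_mul] at this
    have hpow : ∀ n : ℕ, (s ^ n).left = s.left ^ n := by
      intro n
      induction n with
      | zero => rw [pow_zero, pow_zero]; rfl
      | succ n ih =>
        have e1 : (s ^ (n + 1)).left = (s ^ n).left * (((s ^ n).right : ↥(zpowers x)) : MulAut X) s.left := by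
          rw [pow_succ, hmul]
        have e2 : (((s ^ n).right : ↥(zpowers x)) : MulAut X) s.left = s.left :=
          fix_zpowers (s ^ n).right.2 (show s.left ∈ fixedSubgroup x from h5.symm)
        rw [e1, e2, ih, pow_succ]
    refine hC s.left h5.symm ?_ ?_
    · intro v hv
      have h6 : (⟨v, 1⟩ : Y x) ∈ E := hv
      have h7 := congrArg SemidirectProduct.left (hs _ h6)
      rw [hmul, hmul] at h7
      change s.left * (s.right : MulAut X) v = v * ((1 : ↥(zpowers x)) : MulAut X) s.left at h7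
      rw [hfx _ _ hv] at h7
      exact h7
    · obtain ⟨k, hk⟩ := S.isPGroup' ⟨s, hsS⟩
      refine ⟨k, ?_⟩
      rw [← hpow]
      have hk' : s ^ 2 ^ k = 1 := congrArg Subtype.val hk
      rw [hk']
      rfl)
  exact GH.Rank.of_injective hr (SemidirectProduct.inl : X →* Y x) SemidirectProduct.inl_injective

/-- **The rank criterion**: two commuting involutions of `P` such that every automorphism of 2-power order fixing them is
the conjugation by an element of the four-group -/
theorem rank_of_act [Finite X] {x : MulAut X} (hxx : x * x = 1) (hx1 : x ≠ 1) {P : Type v} [Group P] [Finite P]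
    (S : Act ↥(fixedSubgroup x) P) {a b : P} (ha : a * a = 1) (hb : b * b = 1) (hab : a * b = b * a) (ha1 : a ≠ 1)
    (hb1 : b ≠ 1) (hne : a ≠ b)
    (hP : ∀ g : ↥(fixedSubgroup x), (∃ k : ℕ, g ^ 2 ^ k = 1) → S.φ g a = a → S.φ g b = b →
      ∃ c ∈ H284.RankFix.four a b ha hb hab, S.φ g = MulAut.conj c) : SectionalPRankLE 2 4 X := by
  -- lifts
  obtain ⟨v, hv, hv2, -⟩ := S.exists_fix_pow ⊥ (IsPGroup.of_bot) (p := a) (by
    intro r hr
    rw [mem_bot.1 hr, map_one, MulAut.one_apply]) two_ne_zero (S.coprime_two_pow 1) (by rw [pow_two, ha])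
  have hvv : (v : ↥(fixedSubgroup x)) * v = 1 := by
    have := congrArg Subtype.val hv2
    rwa [coe_pow, pow_two] at this
  have hRv : IsPGroup 2 ↥(zpowers (v : ↥(fixedSubgroup x))) := by
    have h1 : orderOf (v : ↥(fixedSubgroup x)) ∣ 2 ^ 1 := orderOf_dvd_of_pow_eq_one (by rw [pow_one, pow_two, hvv])
    obtain ⟨j, -, hj⟩ := (Nat.dvd_prime_pow Nat.prime_two).1 h1
    exact IsPGroup.of_card (n := j) (by rw [Nat.card_zpowers, hj])
  have hfixb : ∀ r ∈ zpowers (v : ↥(fixedSubgroup x)), S.φ r b = b := by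
    intro r hr
    obtain ⟨n, rfl⟩ := mem_zpowers_iff.1 hr
    have h1 : S.φ (v : ↥(fixedSubgroup x)) b = b := by
      rw [S.phi_coe, hv, MulAut.conj_apply, hab, mul_inv_cancel_right]
    have h2 : S.φ (v : ↥(fixedSubgroup x)) ∈ MulAction.stabilizer (MulAut P) b := h1
    rw [map_zpow]
    exact zpow_mem h2 n
  obtain ⟨w, hw, hw2, hvw⟩ := S.exists_fix_pow _ hRv hfixb two_ne_zero (S.coprime_two_pow 1) (by rw [pow_two, hb])
  have hww : (w : ↥(fixedSubgroup x)) * w = 1 := by
    have := congrArg Subtype.val hw2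
    rwa [coe_pow, pow_two] at this
  have hcomm : (v : ↥(fixedSubgroup x)) * w = w * v := hvw _ (mem_zpowers _)
  have hv1 : (v : ↥(fixedSubgroup x)) ≠ 1 := by
    intro h
    apply ha1
    rw [← hv, show v = 1 from Subtype.ext h, map_one]
  have hw1 : (w : ↥(fixedSubgroup x)) ≠ 1 := by
    intro h
    apply hb1
    rw [← hw, show w = 1 from Subtype.ext h, map_one]
  have hvw1 : (v : ↥(fixedSubgroup x)) ≠ w := by
    intro h
    apply hne
    rw [← hv, ← hw, show v = w from Subtype.ext h]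
  set V := H284.RankFix.four (v : ↥(fixedSubgroup x)) w hvv hww hcomm with hVdef
  refine rank_fix hxx hx1 (V.map (fixedSubgroup x).subtype) (map_subtype_le V) ?_ ?_ ?_ ?_
  · rintro _ ⟨a, ha, rfl⟩ _ ⟨b, hb, rfl⟩
    exact congrArg Subtype.val (H284.RankFix.comm_four a ha b hb)
  · rintro _ ⟨a, ha, rfl⟩
    exact congrArg Subtype.val (H284.RankFix.sq_four a ha)
  · rw [card_map_of_injective (fixedSubgroup x).subtype_injective]
    exact H284.RankFix.card_four hvv hww hcomm hv1 hw1 hvw1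
  · intro g hg hgv hk
    obtain ⟨k, hk⟩ := hk
    have hgV : ∀ u ∈ V, (⟨g, hg⟩ : ↥(fixedSubgroup x)) * u = u * ⟨g, hg⟩ := fun u hu =>
      Subtype.ext (hgv u ⟨u, hu, rfl⟩)
    have hgk : (⟨g, hg⟩ : ↥(fixedSubgroup x)) ^ 2 ^ k = 1 := Subtype.ext (by rw [coe_pow]; exact hk)
    have hfx : ∀ c : ↥S.A, (c : ↥(fixedSubgroup x)) ∈ V → S.φ ⟨g, hg⟩ (S.π c) = S.π c := by
      intro c hc
      rw [← S.compat]
      congr 1
      apply Subtype.ext
      change (⟨g, hg⟩ : ↥(fixedSubgroup x)) * c * (⟨g, hg⟩ : ↥(fixedSubgroup x))⁻¹ = c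
      rw [hgV _ hc, mul_inv_cancel_right]
    obtain ⟨c, hc, hgc⟩ := hP ⟨g, hg⟩ ⟨k, hgk⟩ (by rw [← hv]; exact hfx v (Or.inr (Or.inl rfl)))
      (by rw [← hw]; exact hfx w (Or.inr (Or.inr (Or.inl rfl))))
    -- the element of `V` over `c`
    have key : ∀ d : ↥S.A, (d : ↥(fixedSubgroup x)) ∈ V → S.π d = c → g ∈ V.map (fixedSubgroup x).subtype := by
      intro d hd hdc
      have h1 : S.φ ((d : ↥(fixedSubgroup x))⁻¹ * ⟨g, hg⟩) = 1 := by
        rw [map_mul, map_inv, S.phi_coe, hdc, hgc, inv_mul_cancel]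
      have hdd : (d : ↥(fixedSubgroup x)) * d = 1 := H284.RankFix.sq_four _ hd
      have h2 : ((d : ↥(fixedSubgroup x))⁻¹ * ⟨g, hg⟩) ^ 2 ^ (k + 1) = 1 := by
        have h3 : Commute (d : ↥(fixedSubgroup x))⁻¹ ⟨g, hg⟩ := (show Commute (d : ↥(fixedSubgroup x)) ⟨g, hg⟩ from
          (hgV _ hd).symm).inv_left
        rw [h3.mul_pow, pow_succ 2 k, pow_mul (⟨g, hg⟩ : ↥(fixedSubgroup x)), hgk, one_pow, mul_one, mul_comm (2 ^ k),
          pow_mul, inv_pow, pow_two, hdd, inv_one, one_pow]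
      have h3 := S.eq_one h1 h2
      rw [inv_mul_eq_one] at h3
      exact ⟨_, hd, congrArg Subtype.val h3⟩
    rcases hc with h | h | h | h
    · exact key 1 (Or.inl rfl) (by rw [map_one, h])
    · exact key v (Or.inr (Or.inl rfl)) (by rw [hv, h])
    · exact key w (Or.inr (Or.inr (Or.inl rfl))) (by rw [hw, h])
    · exact key (v * w) (Or.inr (Or.inr (Or.inr rfl))) (by rw [map_mul, hv, hw, h])

end rank

section comp

open scoped commutatorElement

variable {C : Type u} [Group C]

/-- an automorphism trivial on `A / Z(A)`, `A` perfect, is trivial -/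
theorem eq_one_of_bar {N : Type u} [Group N] (hN : commutator N = ⊤) (τ : MulAut N)
    (h1 : ∀ x : N, x⁻¹ * τ x ∈ center N) : τ = 1 := by
  have h2 : (⊤ : Subgroup N) ≤ fixedSubgroup τ := by
    rw [← hN, _root_.commutator_def, commutator_le]
    intro x _ y _
    change τ ⁅x, y⁆ = ⁅x, y⁆
    obtain ⟨c, hc, hx⟩ : ∃ c ∈ center N, τ x = x * c := ⟨_, h1 x, by group⟩
    obtain ⟨d, hd, hy⟩ : ∃ c ∈ center N, τ y = y * c := ⟨_, h1 y, by group⟩
    rw [mem_center_iff] at hc hd
    rw [commutatorElement_def, map_mul, map_mul, map_mul, map_inv, map_inv, hx, hy, mul_inv_rev, mul_inv_rev]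
    have e1 : x * c * (y * d) * (c⁻¹ * x⁻¹) * (d⁻¹ * y⁻¹) = x * y * x⁻¹ * y⁻¹ := by
      calc x * c * (y * d) * (c⁻¹ * x⁻¹) * (d⁻¹ * y⁻¹) = x * (c * (y * d)) * (c⁻¹ * x⁻¹) * (d⁻¹ * y⁻¹) := by group
        _ = x * ((y * d) * c) * (c⁻¹ * x⁻¹) * (d⁻¹ * y⁻¹) := by rw [hc (y * d)]
        _ = x * y * (d * x⁻¹) * d⁻¹ * y⁻¹ := by group
        _ = x * y * (x⁻¹ * d) * d⁻¹ * y⁻¹ := by rw [← hd x⁻¹]
        _ = x * y * x⁻¹ * y⁻¹ := by group
    exact e1
  ext x
  exact h2 (mem_top x)

/-- the action of `C` on `A / Z(A) ≃ P` -/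
noncomputable def barHom {A : Subgroup C} (hn : A.Normal) {P : Type v} [Group P] (e : ↥A ⧸ center ↥A ≃* P) :
    C →* MulAut P where
  toFun g := MulAut.congr e (QuotientGroup.congr (center ↥A) (center ↥A) (MulAut.conjNormal g : MulAut ↥A)
    (Subgroup.characteristic_iff_map_eq.1 inferInstance (MulAut.conjNormal g : MulAut ↥A)))
  map_one' := by
    ext p
    obtain ⟨q, rfl⟩ := e.surjective p
    obtain ⟨a, rfl⟩ := QuotientGroup.mk_surjective q
    simp [MulAut.congr]
  map_mul' g h := by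
    ext p
    obtain ⟨q, rfl⟩ := e.surjective p
    obtain ⟨a, rfl⟩ := QuotientGroup.mk_surjective q
    simp [MulAut.congr]
    rfl

theorem barHom_apply {A : Subgroup C} (hn : A.Normal) {P : Type v} [Group P] (e : ↥A ⧸ center ↥A ≃* P) (g : C) (a : ↥A) :
    barHom hn e g (e (QuotientGroup.mk a)) = e (QuotientGroup.mk ((MulAut.conjNormal g : MulAut ↥A) a)) := by
  simp [barHom, MulAut.congr]
  rfl

/-- **The action for a normal quasisimple subgroup centralized by no involution.** -/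
noncomputable def ofComp [Finite C] {A : Subgroup C} (hn : A.Normal) (hA : IsQuasisimple ↥A) {P : Type v} [Group P]
    (e : ↥A ⧸ center ↥A ≃* P) (ho : ∀ u : C, orderOf u = 2 → u ∉ centralizer (A : Set C)) : Act C P where
  A := A
  norm := fun g a ha => hn.conj_mem a ha g
  π := e.toMonoidHom.comp (QuotientGroup.mk' (center ↥A))
  surj := e.surjective.comp (QuotientGroup.mk'_surjective _)
  φ := barHom hn e
  compat := fun g a => by
    change e (QuotientGroup.mk _) = barHom hn e g (e (QuotientGroup.mk a))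
    rw [barHom_apply]
    rfl
  odd := by
    rw [← Nat.not_even_iff_odd]
    intro h
    have : Fact (Nat.Prime 2) := ⟨Nat.prime_two⟩
    obtain ⟨u, hu⟩ := exists_prime_orderOf_dvd_card' (G := ↥(barHom hn e).ker) 2 (even_iff_two_dvd.1 h)
    apply ho (u : C) (by rw [orderOf_coe, hu])
    have h1 : (MulAut.conjNormal (u : C) : MulAut ↥A) = 1 := by
      refine eq_one_of_bar hA.1.commutator_eq_top _ ?_
      intro a
      have h2 : barHom hn e (u : C) (e (QuotientGroup.mk a)) = e (QuotientGroup.mk a) := by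
        rw [MonoidHom.mem_ker.1 u.2, MulAut.one_apply]
      rw [barHom_apply] at h2
      exact QuotientGroup.eq.1 (e.injective h2).symm
    rw [mem_centralizer_iff]
    intro a ha
    have h2 := congrArg (fun t : MulAut ↥A => ((t ⟨a, ha⟩ : ↥A) : C)) h1
    simp only [MulAut.conjNormal_apply, MulAut.one_apply] at h2
    exact (mul_inv_eq_iff_eq_mul.1 h2).symm

end comp

end Cfsg.Agent.H300.SporBase

private theorem dce_e09ef0356208 : _root_.True := by
  try have : _root_.True := by simp only [_root_.Cfsg.Agent.H300.SporBase.barHom.eq_1]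
  exact _root_.True.intro
end

-- part: H815/SixTrans
section
set_option linter.all false
open scoped Cfsg.Agent.FastGrp

/-!
# Groups acting on `A₆` with odd kernel and an involution acting as a transposition (helper815)

`s ∈ C` acts on `A₆` as the transposition `(4 5)`; then `C_C(s)` maps to the centralizer `2 × S₄` of the transposition:
* `not_32` : `32` does not divide `|C_C(s)|`;
* `not_16` : `C_C(s)` has no normal 2-subgroup of order divisible by 16.
-/

set_option autoImplicit false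

namespace Cfsg.Agent.H815.SixTrans

open Subgroup Cfsg Cfsg.Agent
open Cfsg.Agent.StdAlt.Six
open Cfsg.Agent.H300.SporBase

/-- the transposition -/
def t45 : Equiv.Perm (Fin 6) := Equiv.swap 4 5

/-- the centralizer of the transposition -/
def M0 : Subgroup (Equiv.Perm (Fin 6)) := centralizer ({t45} : Set (Equiv.Perm (Fin 6)))

theorem mem_M0 {g : Equiv.Perm (Fin 6)} : g ∈ M0 ↔ g * t45 = t45 * g := mem_centralizer_singleton_iff

theorem cntM0 : (Finset.univ.filter (fun g : Equiv.Perm (Fin 6) => g * t45 = t45 * g)).card = 48 := by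
  (set_option synthInstance.maxSize 9000 in open scoped Cfsg.Agent.Lib.FastPerm in decide +kernel)

theorem card_M0 : Nat.card ↥M0 = 48 := by
  rw [← cntM0, ← Fintype.card_subtype, ← Nat.card_eq_fintype_card]
  exact Nat.card_congr (Equiv.subtypeEquivRight fun g => mem_M0)

/-- the three-cycle `(0 1 2)` -/
def c0' : Equiv.Perm (Fin 6) := Equiv.swap 0 1 * Equiv.swap 1 2

theorem c0_alt : c0' ∈ alternatingGroup (Fin 6) := Equiv.Perm.mem_alternatingGroup.2 (by decide +kernel)

theorem c0_cube : c0' * c0' * c0' = 1 := by decide +kernel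

theorem c0_comm : c0' * t45 = t45 * c0' := by decide +kernel

theorem c0_three : c0'.IsThreeCycle := (three_iff _).1 (by decide +kernel)

theorem comm_three : ∀ g : Equiv.Perm (Fin 6), g * g * g = 1 → g ≠ 1 → g * t45 = t45 * g → mv g = 3 := by
  (set_option synthInstance.maxSize 9000 in open scoped Cfsg.Agent.Lib.FastPerm in decide +kernel)

theorem eq_one_of_conj {g : Equiv.Perm (Fin 6)} (h : ∀ x : A6, g * x * g⁻¹ = (x : Equiv.Perm (Fin 6))) : g = 1 :=
  Cfsg.Agent.StandardComponent.AltAut.eq_one_of_centralizes (m := 4) (by norm_num) h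

/-- automorphisms commuting with the transposition -/
theorem exists_perm {σ α : MulAut A6} (hσ : ∀ p : A6, (σ p : Equiv.Perm (Fin 6)) = t45 * p * t45⁻¹)
    (h : α * σ = σ * α) : ∃ g ∈ M0, ∀ p : A6, (α p : Equiv.Perm (Fin 6)) = g * p * g⁻¹ := by
  have h1 : σ ⟨c0', c0_alt⟩ = ⟨c0', c0_alt⟩ := by
    apply Subtype.ext
    rw [hσ]
    change t45 * c0' * t45⁻¹ = c0'
    rw [← c0_comm, mul_inv_cancel_right]
  have h2 : σ (α ⟨c0', c0_alt⟩) = α ⟨c0', c0_alt⟩ := by
    rw [← MulAut.mul_apply, ← h, MulAut.mul_apply, h1]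
  have h3 : (α ⟨c0', c0_alt⟩ : Equiv.Perm (Fin 6)) * t45 = t45 * (α ⟨c0', c0_alt⟩ : Equiv.Perm (Fin 6)) := by
    have h4 := congrArg (fun x : A6 => (x : Equiv.Perm (Fin 6))) h2
    change (σ (α ⟨c0', c0_alt⟩) : Equiv.Perm (Fin 6)) = _ at h4
    rw [hσ] at h4
    exact (mul_inv_eq_iff_eq_mul.1 h4).symm
  have h5 : (⟨c0', c0_alt⟩ : A6) * ⟨c0', c0_alt⟩ * ⟨c0', c0_alt⟩ = 1 := Subtype.ext (by decide +kernel)
  have h6 : mv (α ⟨c0', c0_alt⟩ : Equiv.Perm (Fin 6)) = 3 := by
    apply comm_three _ _ _ h3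
    · have h7 := congrArg (fun x : A6 => (α x : Equiv.Perm (Fin 6))) h5
      change (α (_ * _ * _) : Equiv.Perm (Fin 6)) = (α 1 : Equiv.Perm (Fin 6)) at h7
      rw [map_mul, map_mul, map_one] at h7
      exact h7
    · intro h7
      have h8 : α ⟨c0', c0_alt⟩ = 1 := Subtype.ext h7
      rw [map_eq_one_iff α α.injective] at h8
      have h9 := congrArg Subtype.val h8
      revert h9
      decide +kernel
  obtain ⟨g, hg⟩ := ns_of_three (c := ⟨c0', c0_alt⟩) c0_three ((three_iff _).1 h6)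
  refine ⟨g, ?_, hg⟩
  rw [mem_M0]
  have h7 : t45⁻¹ * g⁻¹ * t45 * g = 1 := by
    apply eq_one_of_conj
    intro x
    have h8 : ((σ (α x) : A6) : Equiv.Perm (Fin 6)) = α (σ x) := by
      rw [← MulAut.mul_apply, ← h, MulAut.mul_apply]
    rw [hσ, hg, hg, hσ] at h8
    calc t45⁻¹ * g⁻¹ * t45 * g * x * (t45⁻¹ * g⁻¹ * t45 * g)⁻¹
        = t45⁻¹ * g⁻¹ * (t45 * (g * x * g⁻¹) * t45⁻¹) * g * t45 := by group
      _ = x := by rw [h8]; group
  calc g * t45 = g * t45 * (t45⁻¹ * g⁻¹ * t45 * g) := by rw [h7, mul_one]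
    _ = t45 * g := by group

section act

universe u

variable {C : Type u} [Group C] [Finite C] (S : Act C (alternatingGroup (Fin 6))) {s : C}

omit [Finite C] in
theorem exists_hom (hs : ∀ p : A6, ((S.φ s p : A6) : Equiv.Perm (Fin 6)) = t45 * p * t45⁻¹) :
    ∃ f : ↥(centralizer ({s} : Set C)) →* Equiv.Perm (Fin 6), (∀ g, f g ∈ M0) ∧
      ∀ (g : ↥(centralizer ({s} : Set C))) (p : A6), ((S.φ g p : A6) : Equiv.Perm (Fin 6)) = f g * p * (f g)⁻¹ := by
  have h1 : ∀ g : ↥(centralizer ({s} : Set C)), ∃ m ∈ M0,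
      ∀ p : A6, ((S.φ g p : A6) : Equiv.Perm (Fin 6)) = m * p * m⁻¹ := by
    intro g
    apply exists_perm hs
    rw [← map_mul, ← map_mul, mem_centralizer_singleton_iff.1 g.2]
  choose f hf1 hf2 using h1
  have key : ∀ m n : Equiv.Perm (Fin 6), (∀ p : A6, m * p * m⁻¹ = n * (p : Equiv.Perm (Fin 6)) * n⁻¹) → m = n := by
    intro m n h
    have h2 : n⁻¹ * m = 1 := by
      apply eq_one_of_conj
      intro x
      calc n⁻¹ * m * x * (n⁻¹ * m)⁻¹ = n⁻¹ * (m * x * m⁻¹) * n := by group
        _ = x := by rw [h]; group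
    exact (inv_mul_eq_one.1 h2).symm
  refine ⟨MonoidHom.mk' f ?_, hf1, hf2⟩
  intro g h
  apply key
  intro p
  rw [← hf2, coe_mul, map_mul, MulAut.mul_apply, hf2, hf2]
  group

omit [Finite C] in
/-- **`32` does not divide `|C_C(s)|`** -/
theorem not_32 (hs : ∀ p : A6, ((S.φ s p : A6) : Equiv.Perm (Fin 6)) = t45 * p * t45⁻¹) :
    ¬ 32 ∣ Nat.card ↥(centralizer ({s} : Set C)) := by
  intro h
  obtain ⟨f, hf1, hf2⟩ := exists_hom S hs
  have h1 : Odd (Nat.card ↥f.ker) := by
    let F : ↥f.ker →* ↥S.φ.ker :=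
      { toFun := fun g => ⟨((g : ↥(centralizer ({s} : Set C))) : C), by
          rw [MonoidHom.mem_ker]
          ext p
          rw [hf2, MonoidHom.mem_ker.1 g.2, MulAut.one_apply]
          simp⟩
        map_one' := rfl
        map_mul' := fun _ _ => rfl }
    have hF : Function.Injective F := by
      intro a b h
      exact Subtype.ext (Subtype.ext (congrArg (fun t : ↥S.φ.ker => (t : C)) h))
    exact S.odd.of_dvd_nat (card_dvd_of_injective F hF)
  have h2 : Nat.card ↥(centralizer ({s} : Set C)) = Nat.card ↥f.range * Nat.card ↥f.ker := by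
    rw [← Nat.card_congr (QuotientGroup.quotientKerEquivRange f).toEquiv]
    exact card_eq_card_quotient_mul_card_subgroup f.ker
  rw [h2] at h
  have h3 : (32 : ℕ).Coprime (Nat.card ↥f.ker) := by
    have h4 : (2 ^ 5).Coprime (Nat.card ↥f.ker) := (Nat.coprime_two_left.2 h1).pow_left 5
    exact h4
  have h4 := h3.dvd_of_dvd_mul_right h
  have h5 : f.range ≤ M0 := by
    rintro _ ⟨g, rfl⟩
    exact hf1 g
  have h6 := h4.trans (card_dvd_of_le h5)
  rw [card_M0] at h6
  norm_num at h6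

/-- no subgroup of order divisible by 16 of the centralizer of the transposition is a 2-group normalised by an element
of order three -/
theorem no_norm {R : Subgroup (Equiv.Perm (Fin 6))} (hR : R ≤ M0) (h16 : 16 ∣ Nat.card ↥R) (hp : IsPGroup 2 ↥R)
    (hn : ∀ r ∈ R, c0' * r * c0'⁻¹ ∈ R) : False := by
  have h48 := card_M0
  have hfin : Finite ↥R := inferInstance
  have hcR : Nat.card ↥R ∣ 48 := h48 ▸ card_dvd_of_le hR
  have hc16 : Nat.card ↥R = 16 := by
    obtain ⟨n, hn⟩ := (IsPGroup.iff_card (p := 2)).1 hp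
    have h1 : Nat.card ↥R ≤ 48 := Nat.le_of_dvd (by norm_num) hcR
    have h2 : n < 6 := by
      by_contra h
      push Not at h
      have h3 : 2 ^ 6 ≤ 2 ^ n := Nat.pow_le_pow_right (by norm_num) h
      omega
    interval_cases n <;> rw [hn] at h16 hcR ⊢ <;> revert h16 hcR <;> decide
  have hc0 : c0' ∈ normalizer (R : Set (Equiv.Perm (Fin 6))) := by
    rw [mem_normalizer_iff]
    intro r
    refine ⟨hn r, fun h => ?_⟩
    have h1 := hn _ (hn _ h)
    have h2 : c0' * (c0' * (c0' * r * c0'⁻¹) * c0'⁻¹) * c0'⁻¹ = c0' * c0' * c0' * r * (c0' * c0' * c0')⁻¹ := by group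
    rw [h2, c0_cube, one_mul, inv_one, mul_one] at h1
    exact h1
  set N := normalizer (R : Set (Equiv.Perm (Fin 6))) ⊓ M0 with hN
  have h1 : 48 ∣ Nat.card ↥N := by
    have h2 : 16 ∣ Nat.card ↥N := h16.trans (card_dvd_of_le (le_inf le_normalizer hR))
    have h3 : 3 ∣ Nat.card ↥N := by
      have h4 : orderOf c0' = 3 := c0_three.orderOf
      have h5 : zpowers c0' ≤ N := by
        rw [zpowers_le]
        exact ⟨hc0, mem_M0.2 c0_comm⟩
      have h6 := card_dvd_of_le h5
      rwa [Nat.card_zpowers, h4] at h6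
    exact Nat.Coprime.mul_dvd_of_dvd_of_dvd (by norm_num : Nat.Coprime 16 3) h2 h3
  have h2 : N = M0 := by
    apply SetLike.coe_injective
    apply Set.eq_of_subset_of_ncard_le inf_le_right _ (Set.toFinite _)
    rw [← Nat.card_coe_set_eq, ← Nat.card_coe_set_eq]
    change Nat.card ↥M0 ≤ Nat.card ↥N
    rw [h48]
    exact Nat.le_of_dvd Nat.card_pos h1
  have h3 : ∀ m ∈ M0, ∀ r ∈ R, m * r * m⁻¹ ∈ R := by
    intro m hm r hr
    rw [← h2] at hm
    exact (mem_normalizer_iff.1 hm.1 r).1 hr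
  have hnR : (R.subgroupOf M0).Normal := ⟨fun r hr m => h3 m m.2 r hr⟩
  have hidx : (R.subgroupOf M0).index = 3 := by
    have h4 := R.subgroupOf M0 |>.card_mul_index
    rw [Nat.card_congr (subgroupOfEquivOfLe hR).toEquiv, hc16, h48] at h4
    omega
  have hinv : ∀ m ∈ M0, m * m = 1 → m ∈ R := by
    intro m hm hmm
    have h5 : (⟨m, hm⟩ : ↥M0) ^ 3 ∈ R.subgroupOf M0 := by
      rw [← hidx]
      exact pow_index_mem (R.subgroupOf M0) _
    have h6 : (⟨m, hm⟩ : ↥M0) ^ 3 = ⟨m, hm⟩ := by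
      apply Subtype.ext
      change m ^ 3 = m
      rw [pow_succ, pow_two, hmm, one_mul]
    rw [h6] at h5
    exact h5
  have ha : Equiv.swap (0 : Fin 6) 1 ∈ R := hinv _ (mem_M0.2 (by decide +kernel)) (by decide +kernel)
  have hb : Equiv.swap (1 : Fin 6) 2 ∈ R := hinv _ (mem_M0.2 (by decide +kernel)) (by decide +kernel)
  have hc : c0' ∈ R := R.mul_mem ha hb
  have h7 : orderOf c0' = 3 := c0_three.orderOf
  have h8 : 3 ∣ 16 := by
    rw [← hc16, ← h7, ← Nat.card_zpowers]
    exact card_dvd_of_le (by rw [zpowers_le]; exact hc)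
  norm_num at h8

/-- **no normal 2-subgroup of order divisible by 16 in `C_C(s)`** -/
theorem not_16 (hss : s * s = 1) (hs : ∀ p : A6, ((S.φ s p : A6) : Equiv.Perm (Fin 6)) = t45 * p * t45⁻¹)
    (R : Subgroup C) (hR : ∀ r ∈ R, r * s = s * r) (hp : IsPGroup 2 ↥R)
    (hn : ∀ g : C, g * s = s * g → ∀ r ∈ R, g * r * g⁻¹ ∈ R) : ¬ 16 ∣ Nat.card ↥R := by
  intro h16
  obtain ⟨f, hf1, hf2⟩ := exists_hom S hs
  have key : ∀ m n : Equiv.Perm (Fin 6), (∀ p : A6, m * p * m⁻¹ = n * (p : Equiv.Perm (Fin 6)) * n⁻¹) → m = n := by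
    intro m n h
    have h2 : n⁻¹ * m = 1 := by
      apply eq_one_of_conj
      intro x
      calc n⁻¹ * m * x * (n⁻¹ * m)⁻¹ = n⁻¹ * (m * x * m⁻¹) * n := by group
        _ = x := by rw [h]; group
    exact (inv_mul_eq_one.1 h2).symm
  let ι : ↥R →* ↥(centralizer ({s} : Set C)) :=
    { toFun := fun r => ⟨r, mem_centralizer_singleton_iff.2 (hR r r.2)⟩
      map_one' := rfl
      map_mul' := fun _ _ => rfl }
  have hinj : Function.Injective (f.comp ι) := by
    rw [injective_iff_map_eq_one]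
    intro r hr
    obtain ⟨k, hk⟩ := hp r
    apply Subtype.ext
    apply S.eq_one (k := k)
    · ext p
      have h1 := hf2 (ι r) p
      change f (ι r) = 1 at hr
      rw [hr] at h1
      rw [MulAut.one_apply]
      change ((S.φ (r : C) p : A6) : Equiv.Perm (Fin 6)) = _ at h1
      rw [h1]
      simp
    · exact congrArg Subtype.val hk
  -- a lift of the three-cycle
  have hz : IsPGroup 2 ↥(zpowers s) := by
    intro x
    refine ⟨1, ?_⟩
    obtain ⟨x, hx⟩ := x
    obtain ⟨n, rfl⟩ := hx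
    apply Subtype.ext
    change (s ^ n) ^ 2 ^ 1 = 1
    rw [← zpow_natCast, ← zpow_mul, mul_comm, zpow_mul, zpow_natCast, pow_one, pow_two, hss, one_zpow]
  have hfix : S.φ s ⟨c0', c0_alt⟩ = ⟨c0', c0_alt⟩ := by
    apply Subtype.ext
    rw [hs]
    change t45 * c0' * t45⁻¹ = c0'
    rw [← c0_comm, mul_inv_cancel_right]
  obtain ⟨a, ha, hac⟩ := S.exists_fix (zpowers s) hz (p := ⟨c0', c0_alt⟩) (by
    rintro _ ⟨n, rfl⟩
    have h1 : ∀ n : ℤ, (S.φ s ^ n) ⟨c0', c0_alt⟩ = ⟨c0', c0_alt⟩ := by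
      intro n
      have h2 : S.φ s ∈ MulAction.stabilizer (MulAut A6) (⟨c0', c0_alt⟩ : A6) := hfix
      exact (MulAction.stabilizer (MulAut A6) (⟨c0', c0_alt⟩ : A6)).zpow_mem h2 n
    rw [map_zpow]
    exact h1 n)
  have has : (a : C) * s = s * a := (hac s (mem_zpowers s)).symm
  have hfa : f ⟨a, mem_centralizer_singleton_iff.2 has⟩ = c0' := by
    apply key
    intro p
    rw [← hf2]
    change ((S.φ (a : C) p : A6) : Equiv.Perm (Fin 6)) = _
    rw [S.phi_coe, ha, MulAut.conj_apply]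
    rfl
  apply no_norm (R := (f.comp ι).range)
  · rintro _ ⟨r, rfl⟩
    exact hf1 _
  · rwa [← Nat.card_congr (MonoidHom.ofInjective hinj).toEquiv]
  · exact hp.of_equiv (MonoidHom.ofInjective hinj)
  · rintro _ ⟨r, rfl⟩
    refine ⟨⟨a * r * (a : C)⁻¹, hn a has r r.2⟩, ?_⟩
    rw [← hfa, MonoidHom.comp_apply, MonoidHom.comp_apply, ← map_inv, ← map_mul, ← map_mul]
    rfl

end act

end Cfsg.Agent.H815.SixTrans
end
end
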